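import Groth.Agent.GrModX.FiniteShift
import Groth.Agent.PnCoh.Finite.TwistInv
import Groth.Prelude.Def_GrMod2
import Groth.Prelude.Def_Pic

/-!
# Twists by multiples of the degree of elements without common zero

The multiplication isomorphism of `H9Misc.TwistPer`, for families of subgroups that need not decompose the module.

If `h` is homogeneous of degree `q` then on `D(h)` the sheaf `O(qk)` is free on `h ^ k` and multiplication by it
identifies `M(a)~` with `M(a + qk)~`.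
-/

set_option autoImplicit false
set_option backward.isDefEq.respectTransparency false
set_option backward.isDefEq.respectTransparency.types false
set_option synthInstance.maxHeartbeats 200000
set_option maxHeartbeats 800000

universe u

open CategoryTheory CategoryTheory.Limits AlgebraicGeometry TopologicalSpace Opposite MonoidalCategory
open Groth.Agent.KFlatLib

noncomputable section

namespace Groth.Agent.GrLib8.SerreCorr.TwistAny

open Groth.Agent.PnCoh (NonVan pow_notMem mul_notMem)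
open Groth.Agent.PnCoh.Finite (D)

variable {R A : Type u} [CommRing R] [CommRing A] [Algebra R A]
  {𝒜 : ℕ → Submodule R A} [GradedAlgebra 𝒜]
  {M τ : Type u} [AddCommGroup M] [Module A M] [SetLike τ M] [AddSubgroupClass τ M]
  {ℳ : ℕ → τ} [SetLike.GradedSMul 𝒜 ℳ]

theorem pow_mem {q : ℕ} {h : A} (hh : h ∈ 𝒜 q) (k : ℕ) : h ^ k ∈ 𝒜 (k * q) := by
  simpa using SetLike.pow_mem_graded k hh

/-- The section `h ^ k` of `O(b)`, `b = k q`. -/
def powQ {q : ℕ} {h : A} (hh : h ∈ 𝒜 q) (k b : ℤ) (hb : b = k * q)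
    {U : Opens (ProjectiveSpectrum.top 𝒜)} (hU : NonVan h U) : Twist.sectN (𝒜 := 𝒜) b (op U) :=
  ⟨fun x => ⟨Localization.mk (h ^ k.toNat) ⟨h ^ (-k).toNat, pow_notMem (hU x) _⟩,
    Submodule.subset_span ⟨k.toNat * q, (-k).toNat * q, ⟨_, pow_mem hh _⟩, ⟨_, pow_mem hh _⟩,
      pow_notMem (hU x) _, by
        subst hb; push_cast; linear_combination (q : ℤ) * (Int.toNat_sub_toNat_neg k), rfl⟩⟩,
   fun x => ⟨U, x.2, 𝟙 _, k.toNat * q, (-k).toNat * q, ⟨_, pow_mem hh _⟩, ⟨_, pow_mem hh _⟩,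
    fun y => pow_notMem (hU y) _, Or.inl (by
      subst hb; push_cast; linear_combination (q : ℤ) * (Int.toNat_sub_toNat_neg k)), fun _ => rfl⟩⟩

theorem smul_mem_twist {a b c : ℤ} (e : a + b = c) {x : ProjectiveSpectrum 𝒜}
    {s : GrMod.LocMod 𝒜 (M := M) x} {r : Twist.Loc 𝒜 x}
    (hs : s ∈ GrMod.tildeAt 𝒜 ℳ a x) (hr : r ∈ Twist.twistAt 𝒜 b x) :
    r • s ∈ GrMod.tildeAt 𝒜 ℳ c x := by
  induction hr using Submodule.span_induction with
  | mem r hr =>
    induction hs using Submodule.span_induction with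
    | mem s hs =>
      obtain ⟨i, j, p, t, ht, hij, rfl⟩ := hs
      obtain ⟨i', j', p', t', ht', hij', rfl⟩ := hr
      rw [LocalizedModule.mk_smul_mk]
      exact Submodule.subset_span ⟨i' + i, j' + j, ⟨p'.1 • p.1, SetLike.GradedSMul.smul_mem p'.2 p.2⟩,
        ⟨t'.1 * t.1, SetLike.mul_mem_graded t'.2 t.2⟩, mul_notMem ht' ht, by push_cast; omega, rfl⟩
    | zero => rw [smul_zero]; exact zero_mem _
    | add y z _ _ hy hz => rw [smul_add]; exact add_mem hy hz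
    | smul d y _ hy => rw [GrMod.a0_smul_def, smul_comm]; exact Submodule.smul_mem _ d hy
  | zero => rw [zero_smul]; exact zero_mem _
  | add y z _ _ hy hz => rw [add_smul]; exact add_mem hy hz
  | smul d y _ hy =>
    change ((d.val) * y) • s ∈ _
    rw [mul_smul]
    exact Submodule.smul_mem _ d hy

/-- The product of a section of `M(a)~` and a section of `O(b)`. -/
def mulSect {a b c : ℤ} (e : a + b = c) {U : (Opens (ProjectiveSpectrum.top 𝒜))ᵒᵖ}
    (s : GrMod.sect 𝒜 ℳ a U) (t : Twist.sectN (𝒜 := 𝒜) b U) : GrMod.sect 𝒜 ℳ c U :=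
  ⟨fun x => ⟨(t.1 x).1 • (s.1 x).1, smul_mem_twist e (s.1 x).2 (t.1 x).2⟩, fun x => by
    obtain ⟨V, hxV, iV, i, j, p, w₁, nq, hij, w⟩ := s.2 x
    obtain ⟨V', hxV', iV', i', j', p', w₂, nq', hij', w'⟩ := t.2 x
    refine ⟨V ⊓ V', ⟨hxV, hxV'⟩, Opens.infLELeft _ _ ≫ iV, i' + i, j' + j,
      ⟨p'.1 • p.1, SetLike.GradedSMul.smul_mem p'.2 p.2⟩,
      ⟨w₂.1 * w₁.1, SetLike.mul_mem_graded w₂.2 w₁.2⟩,
      fun y => mul_notMem (nq' ⟨y.1, y.2.2⟩) (nq ⟨y.1, y.2.1⟩), ?_, fun y => ?_⟩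
    · rcases hij with h | h
      · rcases hij' with h' | h'
        · exact Or.inl (by push_cast; omega)
        · exact Or.inr (show p'.1 • p.1 = 0 by rw [h', zero_smul])
      · exact Or.inr (show p'.1 • p.1 = 0 by rw [h, smul_zero])
    · show (t.1 (iV' ⟨y.1, y.2.2⟩)).1 • (s.1 (iV ⟨y.1, y.2.1⟩)).1 = _
      rw [show (s.1 (iV ⟨y.1, y.2.1⟩)).1 = _ from w ⟨y.1, y.2.1⟩,
        show (t.1 (iV' ⟨y.1, y.2.2⟩)).1 = _ from w' ⟨y.1, y.2.2⟩, LocalizedModule.mk_smul_mk]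
      rfl⟩

theorem mulSect_coe {a b c : ℤ} (e : a + b = c) {U : (Opens (ProjectiveSpectrum.top 𝒜))ᵒᵖ}
    (s : GrMod.sect 𝒜 ℳ a U) (t : Twist.sectN (𝒜 := 𝒜) b U) (x : U.unop) :
    ((mulSect e s t).1 x).1 = (t.1 x).1 • (s.1 x).1 := rfl

theorem mulSect_smul_left {a b c : ℤ} (e : a + b = c) {U : (Opens (ProjectiveSpectrum.top 𝒜))ᵒᵖ}
    (d : GrTwist.O (𝒜 := 𝒜) U) (s : GrMod.sect 𝒜 ℳ a U) (t : Twist.sectN (𝒜 := 𝒜) b U) :
    mulSect e (d • s) t = d • mulSect e s t := by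
  refine Subtype.ext (funext fun x => Subtype.ext ?_)
  show (t.1 x).1 • ((d.1 x).val • (s.1 x).1) = (d.1 x).val • ((t.1 x).1 • (s.1 x).1)
  exact smul_comm _ _ _

theorem mulSect_smul_right {a b c : ℤ} (e : a + b = c) {U : (Opens (ProjectiveSpectrum.top 𝒜))ᵒᵖ}
    (d : Twist.O (𝒜 := 𝒜) U) (s : GrMod.sect 𝒜 ℳ a U) (t : Twist.sectN (𝒜 := 𝒜) b U) :
    mulSect e s (d • t) = (show GrTwist.O (𝒜 := 𝒜) U from d) • mulSect e s t := by
  refine Subtype.ext (funext fun x => Subtype.ext ?_)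
  show ((d.1 x).val * (t.1 x).1) • (s.1 x).1 = (d.1 x).val • ((t.1 x).1 • (s.1 x).1)
  exact mul_smul _ _ _

theorem powQ_mul_inv {q : ℕ} {h : A} (hh : h ∈ 𝒜 q) (k b : ℤ) (hb : b = k * q) (hb' : -b = (-k) * q)
    {U : Opens (ProjectiveSpectrum.top 𝒜)} (hU : NonVan h U) (x : U) :
    ((powQ hh (-k) (-b) hb' hU).1 x).1 * ((powQ hh k b hb hU).1 x).1 = 1 := by
  show Localization.mk _ _ * Localization.mk _ _ = _
  rw [Localization.mk_mul, ← Localization.mk_one, Localization.mk_eq_mk_iff, Localization.r_iff_exists]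
  refine ⟨1, ?_⟩
  simp only [OneMemClass.coe_one, one_mul, Submonoid.coe_mul, neg_neg]
  ring

/-- Multiplication by `h ^ k` is bijective where `h` does not vanish. -/
theorem mulSect_powQ_bijective {q : ℕ} {h : A} (hh : h ∈ 𝒜 q) {k b : ℤ} (hb : b = k * q) {a c : ℤ}
    (e : a + b = c) {U : Opens (ProjectiveSpectrum.top 𝒜)} (hU : NonVan h U) :
    Function.Bijective fun s : GrMod.sect 𝒜 ℳ a (op U) => mulSect e s (powQ hh k b hb hU) := by
  have hb' : -b = (-k) * q := by rw [hb]; ring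
  have e' : c + -b = a := by omega
  refine ⟨fun s s' h' => ?_, fun t => ⟨mulSect e' t (powQ hh (-k) (-b) hb' hU), ?_⟩⟩
  · refine Subtype.ext (funext fun x => Subtype.ext ?_)
    have h2 := congrArg (fun s : GrMod.sect 𝒜 ℳ c (op U) =>
      ((powQ hh (-k) (-b) hb' hU).1 x).1 • (s.1 x).1) h'
    simp only [mulSect_coe, smul_smul, powQ_mul_inv hh k b hb hb' hU x, one_smul] at h2
    exact h2
  · refine Subtype.ext (funext fun x => Subtype.ext ?_)
    rw [mulSect_coe, mulSect_coe, smul_smul, mul_comm, powQ_mul_inv hh k b hb hb' hU x, one_smul]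

variable (𝒜) in
theorem twistSect_eq (b : ℤ) (U : (Opens (ProjectiveSpectrum.top 𝒜))ᵒᵖ) :
    GrMod.sect 𝒜 𝒜 b U = (Twist.sectN (𝒜 := 𝒜) b U : Submodule _ _) := rfl

/-- `O(b)` is free on `h ^ k` where `h` does not vanish. -/
theorem triv_bijective {q : ℕ} {h : A} (hh : h ∈ 𝒜 q) {k b : ℤ} (hb : b = k * q)
    {U : Opens (ProjectiveSpectrum.top 𝒜)} (hU : NonVan h U) :
    Function.Bijective fun r : Twist.O (𝒜 := 𝒜) (op U) => r • powQ hh k b hb hU := by
  have h1 : NonVan (𝒜 := 𝒜) (1 : A) U := fun y hy =>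
    y.1.isPrime.ne_top ((Ideal.eq_top_iff_one _).mpr hy)
  have h0 : Function.Bijective (PnCoh.Finite.oneSect (𝒜 := 𝒜) (U := U) |> fun o =>
      fun r : Twist.O (𝒜 := 𝒜) (op U) => r • o) := by
    refine ⟨fun r r' hrr => ?_, fun f => ?_⟩
    · refine Subtype.ext (funext fun x => HomogeneousLocalization.val_injective _ ?_)
      have h2 := congrArg (fun s : Twist.sectN (𝒜 := 𝒜) 0 (op U) => (s.1 x).1) hrr
      have ho : ((PnCoh.Finite.oneSect (𝒜 := 𝒜) (U := U)).1 x).1 = 1 := Localization.mk_one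
      change (r.1 x).val * ((PnCoh.Finite.oneSect (𝒜 := 𝒜) (U := U)).1 x).1 =
        (r'.1 x).val * ((PnCoh.Finite.oneSect (𝒜 := 𝒜) (U := U)).1 x).1 at h2
      rwa [ho, mul_one, mul_one] at h2
    · have key : ∀ x : U, ∃ (V : Opens (ProjectiveSpectrum.top 𝒜)) (_ : x.1 ∈ V) (hV : V ≤ U)
          (i : ℕ) (r t : 𝒜 i) (nin : ∀ y : V, t.1 ∉ y.1.asHomogeneousIdeal), ∀ y : V,
            (f.1 ⟨y.1, hV y.2⟩).1 = (HomogeneousLocalization.mk (x := y.1.asHomogeneousIdeal.toIdeal.primeCompl)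
                ⟨i, r, t, nin y⟩).val := by
        intro x
        obtain ⟨V, hxV, iV, i, j, ⟨a, ha⟩, ⟨t, ht⟩, nin, hdeg, w⟩ := f.2 x
        have hmem : a ∈ 𝒜 j := by
          rcases hdeg with h | h
          · rwa [show j = i by omega]
          · rw [show a = 0 from h]; exact zero_mem _
        exact ⟨V, hxV, leOfHom iV, j, ⟨a, hmem⟩, ⟨t, ht⟩, nin, fun y => w y⟩
      choose V hxV hV i r t nin hw using key
      let c : ∀ x : U, Twist.A0 𝒜 x.1 := fun x =>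
        HomogeneousLocalization.mk ⟨i x, r x, t x, nin x ⟨x.1, hxV x⟩⟩
      refine ⟨⟨c, fun x => ⟨V x, hxV x, homOfLE (hV x), i x, r x, t x, nin x, fun y => ?_⟩⟩, ?_⟩
      · apply HomogeneousLocalization.val_injective
        exact (hw ⟨y.1, hV x y.2⟩ ⟨y.1, hxV _⟩).symm.trans (hw x y)
      · refine Subtype.ext (funext fun x => Subtype.ext ?_)
        have ho : ((PnCoh.Finite.oneSect (𝒜 := 𝒜) (U := U)).1 x).1 = 1 := Localization.mk_one
        show (c x).val * ((PnCoh.Finite.oneSect (𝒜 := 𝒜) (U := U)).1 x).1 = _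
        rw [ho, mul_one]
        exact (hw x ⟨x.1, hxV x⟩).symm
  have h2 := (mulSect_powQ_bijective (ℳ := 𝒜) hh hb (zero_add b) hU).comp h0
  have e : ∀ r : Twist.O (𝒜 := 𝒜) (op U), (show GrMod.sect 𝒜 𝒜 b (op U) from r • powQ hh k b hb hU) =
      mulSect (zero_add b) (show GrMod.sect 𝒜 𝒜 0 (op U) from r • PnCoh.Finite.oneSect (U := U))
        (powQ hh k b hb hU) := fun r => by
    refine Subtype.ext (funext fun x => Subtype.ext ?_)
    have ho : ((PnCoh.Finite.oneSect (𝒜 := 𝒜) (U := U)).1 x).1 = 1 := Localization.mk_one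
    show (r.1 x).val * ((powQ hh k b hb hU).1 x).1 =
      ((powQ hh k b hb hU).1 x).1 * ((r.1 x).val * ((PnCoh.Finite.oneSect (𝒜 := 𝒜) (U := U)).1 x).1)
    rw [ho, mul_one, mul_comm]
  refine ⟨fun r r' h' => h2.1 ((e r).symm.trans (h'.trans (e r'))), fun t => ?_⟩
  obtain ⟨r, hr⟩ := h2.2 (show GrMod.sect 𝒜 𝒜 b (op U) from t)
  exact ⟨r, (e r).trans hr⟩

/-- The multiplication `M(a)~ ⊗ O(b) ⟶ M(c)~` on presheaves. -/
def mulPre {a b c : ℤ} (e : a + b = c) :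
    DCoh.toP.obj (GrMod.tilde 𝒜 ℳ a) ⊗ DCoh.toP.obj (Twist.twist 𝒜 b) ⟶
      DCoh.toP.obj (GrMod.tilde 𝒜 ℳ c) where
  app U := ModuleCat.MonoidalCategory.tensorLift (fun s t => mulSect e s t)
    (fun s s' t => Subtype.ext (funext fun x => Subtype.ext (smul_add (t.1 x).1 (s.1 x).1 (s'.1 x).1)))
    (fun d s t => mulSect_smul_left e d s t)
    (fun s t t' => Subtype.ext (funext fun x => Subtype.ext (add_smul (t.1 x).1 (t'.1 x).1 (s.1 x).1)))
    (fun d s t => mulSect_smul_right e d s t)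
  naturality {U V} i := ModuleCat.MonoidalCategory.tensor_ext fun s t => rfl

theorem mulPre_tm {a b c : ℤ} (e : a + b = c) {U : ((Proj 𝒜).Opens)ᵒᵖ}
    (s : (DCoh.toP.obj (GrMod.tilde 𝒜 ℳ a)).obj U)
    (t : (DCoh.toP.obj (Twist.twist 𝒜 b)).obj U) :
    (mulPre e).app U (tm s t) = mulSect e s t := rfl

theorem mulPre_app_bijective {a b c : ℤ} (e : a + b = c) {q : ℕ} {h : A} (hh : h ∈ 𝒜 q) {k : ℤ}
    (hb : b = k * q) {W : (Proj 𝒜).Opens} (hW : NonVan (𝒜 := 𝒜) h W) :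
    Function.Bijective ((mulPre (ℳ := ℳ) e).app (op W)) := by
  have hsurj : ∀ z : (DCoh.toP.obj (GrMod.tilde 𝒜 ℳ a) ⊗ DCoh.toP.obj (Twist.twist 𝒜 b)).obj (op W),
      ∃ s, z = tm s (powQ hh k b hb hW) := by
    intro z
    induction z using tm_induction with
    | h0 =>
      refine ⟨0, ?_⟩
      have h := tm_add_left (0 : (DCoh.toP.obj (GrMod.tilde 𝒜 ℳ a)).obj (op W)) 0
        (show (DCoh.toP.obj (Twist.twist 𝒜 b)).obj (op W) from powQ hh k b hb hW)
      rw [add_zero] at h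
      exact (add_left_cancel (h.symm.trans (add_zero _).symm)).symm
    | htm s t =>
      obtain ⟨r, rfl⟩ := (triv_bijective hh hb hW).2 t
      exact ⟨sm r s, (tm_smul r s _).symm⟩
    | hadd z z' hz hz' =>
      obtain ⟨s, rfl⟩ := hz
      obtain ⟨s', rfl⟩ := hz'
      exact ⟨s + s', (tm_add_left s s' _).symm⟩
  have hbij := mulSect_powQ_bijective (ℳ := ℳ) hh hb e hW
  refine ⟨(injective_iff_map_eq_zero _).2 fun z hz => ?_, fun t => ?_⟩
  · obtain ⟨s, rfl⟩ := hsurj z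
    rw [mulPre_tm] at hz
    have hs : s = 0 := hbij.1 (hz.trans (show (0 : GrMod.sect 𝒜 ℳ c (op W)) = _ from
      Subtype.ext (funext fun x => Subtype.ext (smul_zero _).symm)))
    subst hs
    have h := tm_add_left (0 : (DCoh.toP.obj (GrMod.tilde 𝒜 ℳ a)).obj (op W)) 0
      (show (DCoh.toP.obj (Twist.twist 𝒜 b)).obj (op W) from powQ hh k b hb hW)
    rw [add_zero] at h
    exact add_left_cancel (h.symm.trans (add_zero _).symm)
  · obtain ⟨s, hs⟩ := hbij.2 t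
    exact ⟨tm s (powQ hh k b hb hW), (mulPre_tm e _ _).trans hs⟩

/-- A map of presheaves bijective on all small neighbourhoods of a point is bijective on the stalk there. -/
theorem bijective_stalkModMap {X : Scheme.{u}} {P Q : CohB1.PMod X} (φ : P ⟶ Q) {x : X} (U : X.Opens)
    (hx : x ∈ U) (hφ : ∀ W : X.Opens, W ≤ U → Function.Bijective (φ.app (op W))) :
    Function.Bijective (stalkModMap (x := x) φ) := by
  refine ⟨(injective_iff_map_eq_zero _).2 fun m hm => ?_, fun m => ?_⟩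
  · obtain ⟨W₀, hxW₀, s, rfl⟩ := exists_germP m
    rw [stalkModMap_germ] at hm
    obtain ⟨W, hxW, i, i', hi⟩ := TopCat.Presheaf.germ_eq (C := AddCommGrpCat.{u}) Q.presheaf x hxW₀ hxW₀
      (φ.app (op W₀) s) 0 (hm.trans (map_zero _).symm)
    let W' := W ⊓ U
    have hxW' : x ∈ W' := ⟨hxW, hx⟩
    let j : W' ⟶ W₀ := homOfLE inf_le_left ≫ i
    rw [← germP_res j hxW' s]
    have h1 : φ.app (op W') (res P j s) = 0 := by
      have h2 : φ.app (op W') (res P j s) = res Q j (φ.app (op W₀) s) :=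
        PresheafOfModules.naturality_apply φ j.op s
      rw [h2, ← res_res i (homOfLE inf_le_left : W' ⟶ W)]
      exact (congrArg (res Q (homOfLE inf_le_left : W' ⟶ W)) (hi.trans (map_zero _))).trans (map_zero _)
    rw [(hφ W' inf_le_right).1 (h1.trans (map_zero _).symm), map_zero]
  · obtain ⟨W₀, hxW₀, t, rfl⟩ := exists_germP m
    obtain ⟨s, hs⟩ := (hφ (W₀ ⊓ U) inf_le_right).2 (res Q (homOfLE inf_le_left) t)
    refine ⟨germP P (W₀ ⊓ U) ⟨hxW₀, hx⟩ s, ?_⟩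
    rw [stalkModMap_germ, hs]
    exact germP_res _ _ t

/-- `M(a)~ ⊗ O(b) ⟶ M(c)~`. -/
def mulHom {a b c : ℤ} (e : a + b = c) :
    (DCoh.tensorBi.obj (GrMod.tilde 𝒜 ℳ a)).obj (Twist.twist 𝒜 b) ⟶ GrMod.tilde 𝒜 ℳ c :=
  ((PresheafOfModules.sheafificationAdjunction (𝟙 (Proj 𝒜).ringCatSheaf.obj)).homEquiv _ _).symm
    (mulPre e)

variable (𝒜) in
/-- `q` is a period: the degree-`q` elements have no common zero. -/
def IsPeriod (q : ℕ) : Prop :=
  ∀ x : ProjectiveSpectrum 𝒜, ∃ h ∈ 𝒜 q, h ∉ x.asHomogeneousIdeal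

/-- `M(a)~ ⊗ O(b) ≅ M(c)~` for `b` a multiple of a period. -/
theorem nonempty_tilde_tensor_iso {q : ℕ} (hq : IsPeriod 𝒜 q) {a b c : ℤ} (e : a + b = c) {k : ℤ}
    (hb : b = k * q) :
    Nonempty (CohB1.tensorMod (GrMod.tilde 𝒜 ℳ a) (Twist.twist 𝒜 b) ≅ GrMod.tilde 𝒜 ℳ c) := by
  suffices IsIso (mulHom (ℳ := ℳ) e) from ⟨@asIso _ _ _ _ (mulHom e) this⟩
  apply isIso_of_stalk
  intro x
  obtain ⟨h, hh, hx⟩ := hq x
  have hu : unitShP (DCoh.toP.obj (GrMod.tilde 𝒜 ℳ a) ⊗ DCoh.toP.obj (Twist.twist 𝒜 b)) ≫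
      DCoh.toP.map (mulHom (ℳ := ℳ) e) = mulPre e :=
    ((PresheafOfModules.sheafificationAdjunction (𝟙 (Proj 𝒜).ringCatSheaf.obj)).homEquiv_unit
      (f := mulHom e)).symm.trans (Equiv.apply_symm_apply _ _)
  have hiso : IsIso ((stalkP x).map (mulPre (ℳ := ℳ) e)) := by
    rw [ConcreteCategory.isIso_iff_bijective]
    exact bijective_stalkModMap _ (D 𝒜 h) hx fun W hW => mulPre_app_bijective e hh hb fun y => hW y.2
  haveI : IsIso ((stalkP x).map (DCoh.toP.map (mulHom (ℳ := ℳ) e))) :=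
    @IsIso.of_isIso_fac_left _ _ _ _ _
      ((stalkP x).map (unitShP (DCoh.toP.obj (GrMod.tilde 𝒜 ℳ a) ⊗ DCoh.toP.obj (Twist.twist 𝒜 b))))
      _ ((stalkP x).map (mulPre e)) (isIso_stalk_unitShP _) hiso
      (((stalkP x).map_comp _ _).symm.trans (congrArg (fun φ => (stalkP x).map φ) hu))
  exact (NatIso.isIso_map_iff (stalkToPIso x) (mulHom (ℳ := ℳ) e)).2 this

end Groth.Agent.GrLib8.SerreCorr.TwistAny
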