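import Groth.Agent.GrLib8.SerreCorr.Compare
import Groth.Agent.GrLib8.SerreCorr.TwistAny
import Groth.Agent.GrLib8.RegTilde.Std
import Groth.Agent.GrLib8.FilterInj
import Groth.Agent.GrLib8.LocalCoh
import Groth.Agent.GrLib8.LesTools
import Groth.Agent.GrLib8.StdPoly
import Groth.Agent.LC.CdDim
import Groth.Agent.Proj16.Points
import Groth.Prelude.Def_Curv2

/-!
# Serre's comparison on projective space
-/

set_option linter.style.haveILetI false
set_option linter.unusedSectionVars false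
set_option maxHeartbeats 1000000

noncomputable section

universe u

open CategoryTheory CategoryTheory.Limits AlgebraicGeometry TopologicalSpace Opposite DirectSum

namespace Groth.Agent.GrLib8.SerreCorr

attribute [local instance 10000] CommRing.toCommSemiring CommSemiring.toSemiring

theorem Hcomp_eq_bot_of_krullDim_lt {ι : Type} [AddCommGroup ι] [DecidableEq ι] {R σ : Type u} [CommRing R]
    [SetLike σ R] [AddSubgroupClass σ R] {𝒜 : ι → σ} [GradedRing 𝒜] [IsNoetherianRing R]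
    {M τ : Type u} [AddCommGroup M] [Module R M] [SetLike τ M] [AddSubgroupClass τ M] {ℳ : ι → τ}
    [DirectSum.Decomposition ℳ] [SetLike.GradedSMul 𝒜 ℳ] (E : GrLC.StarInjRes 𝒜 ℳ) (a : HomogeneousIdeal 𝒜)
    {i : ℕ} (hi : ringKrullDim R < (i : WithBot ℕ∞)) (g : ι) : E.Hcomp a i g = ⊥ := by
  obtain ⟨e⟩ := nonempty_H_equiv _ E a i
  haveI := LC.subsingleton_H_of_supportDim_lt a.toIdeal M i
    ((Module.supportDim_le_ringKrullDim R M).trans_lt hi)
  haveI := e.toEquiv.subsingleton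
  exact Hcomp_eq_bot_of_subsingleton E a i g

section Generic

variable {A σ σz : Type u} [CommRing A] [SetLike σ A] [AddSubgroupClass σ A] {𝒜 : ℕ → σ} [GradedRing 𝒜]
  [SetLike σz A] [AddSubgroupClass σz A] {𝒜z : ℤ → σz} [GradedRing 𝒜z]
  (hmem : ∀ (e : ℕ) (c : A), c ∈ 𝒜z (e : ℤ) ↔ c ∈ 𝒜 e)

include hmem in
theorem gradedSMul_nat {X τ : Type u} [AddCommGroup X] [Module A X] [SetLike τ X] [AddSubgroupClass τ X]
    (𝒳 : ℤ → τ) [SetLike.GradedSMul 𝒜z 𝒳] : SetLike.GradedSMul 𝒜 fun n : ℕ => 𝒳 (n : ℤ) :=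
  ⟨fun {i j c x} hc hx => by
    show c • x ∈ 𝒳 ((i + j : ℕ) : ℤ)
    rw [Nat.cast_add]
    exact SetLike.GradedSMul.smul_mem (A := 𝒜z) (B := 𝒳) ((hmem i c).2 hc) hx⟩

include hmem in
theorem irrel_eq_irrelevant :
    (GrSyz.irrel 𝒜z).toIdeal = (HomogeneousIdeal.irrelevant 𝒜).toIdeal := by
  classical
  refine le_antisymm (Ideal.span_le.2 ?_) fun f hf => ?_
  · rintro p ⟨z, hz, hp⟩
    obtain ⟨j, rfl⟩ := Int.eq_ofNat_of_zero_le hz.le
    exact HomogeneousIdeal.mem_irrelevant_of_mem 𝒜 (by exact_mod_cast hz) ((hmem j p).1 hp)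
  · rw [← sum_support_decompose 𝒜 f]
    refine Ideal.sum_mem _ fun e _ => ?_
    rcases Nat.eq_zero_or_pos e with rfl | he
    · rw [show (decompose 𝒜 f 0 : A) = 0 from hf]
      exact zero_mem _
    · exact Ideal.subset_span ⟨e, by exact_mod_cast he, (hmem e _).2 (SetLike.coe_mem _)⟩

end Generic

variable {k : Type u} [Field k] {r : ℕ}

theorem isPeriod_one : TwistAny.IsPeriod (CohB1.polyGrading r k) 1 := fun x => by
  have hx : x ∈ ⨆ j, PnCoh.Finite.D (CohB1.polyGrading r k) (RegTilde.coord k r j) := by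
    rw [RegTilde.coord_cover]; trivial
  obtain ⟨j, hj⟩ := Opens.mem_iSup.1 hx
  exact ⟨_, RegTilde.coord_mem j, hj⟩

variable {M : Type u} [AddCommGroup M] [Module k M] [Module (MvPolynomial (Fin (r + 1)) k) M]
  [IsScalarTower k (MvPolynomial (Fin (r + 1)) k) M]
  {ℳ : ℤ → Submodule k M} [DirectSum.Decomposition ℳ] [SetLike.GradedSMul (GrSyz.stdGr k (Fin (r + 1))) ℳ]
  [SetLike.GradedSMul (CohB1.polyGrading r k) fun n : ℕ => ℳ (n : ℤ)]
  (E : GrLC.StarInjRes (GrSyz.stdGr k (Fin (r + 1))) ℳ)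

theorem subsingleton_HH_tilde_std (i : ℕ) (n : ℤ) :
    Subsingleton (Coh.HH (CohB1.ProjSpace r k)
      (GrTilde.tilde (CohB1.polyGrading r k) (fun n : ℕ => ℳ (n : ℤ)) n) (i + 1)) ↔
      E.Hcomp (GrSyz.irrel (GrSyz.stdGr k (Fin (r + 1)))) (i + 2) n = ⊥ := by
  haveI := fun p => gradedSMul_nat (𝒜 := CohB1.polyGrading r k)
    (fun _ _ => RegTilde.mem_stdGr_natCast) (E.X p).gr
  haveI : AlgebraicGeometry.IsNoetherian (Proj (CohB1.polyGrading r k)) := Proj16.isNoetherian_proj _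
  exact subsingleton_HH_tilde_iff (𝒜 := CohB1.polyGrading r k) (fun _ _ => RegTilde.mem_stdGr_natCast)
    (stdGr_nonneg k _) E (irrel_eq_irrelevant fun _ _ => RegTilde.mem_stdGr_natCast) n i

theorem surjective_globalOf_iff (d : ℕ) :
    Function.Surjective (fun m : ↥(ℳ ((d : ℕ) : ℤ)) =>
      GrTilde.globalOf (CohB1.polyGrading r k) (fun n : ℕ => ℳ (n : ℤ)) m) ↔
      E.Hcomp (GrSyz.irrel (GrSyz.stdGr k (Fin (r + 1)))) 1 (d : ℤ) = ⊥ := by
  haveI := fun p => gradedSMul_nat (𝒜 := CohB1.polyGrading r k)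
    (fun _ _ => RegTilde.mem_stdGr_natCast) (E.X p).gr
  haveI : AlgebraicGeometry.IsNoetherian (Proj (CohB1.polyGrading r k)) := Proj16.isNoetherian_proj _
  rw [← surjective_gs_iff (𝒜 := CohB1.polyGrading r k) (fun _ _ => RegTilde.mem_stdGr_natCast)
    (stdGr_nonneg k _) E (irrel_eq_irrelevant fun _ _ => RegTilde.mem_stdGr_natCast) (d : ℤ)]
  constructor
  · intro h s
    obtain ⟨m, hm⟩ := h s
    exact ⟨m.1, m.2, Eq.trans (GrModX.ext_val (CohB1.polyGrading r k) (fun n : ℕ => ℳ (n : ℤ)) fun y => rfl) hm⟩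
  · intro h s
    obtain ⟨m, hm, hms⟩ := h s
    exact ⟨⟨m, hm⟩, Eq.trans (GrModX.ext_val (CohB1.polyGrading r k) (fun n : ℕ => ℳ (n : ℤ)) fun y => rfl) hms⟩

theorem isMRegular_iff (d : ℤ) :
    Curv2.IsMRegular k r (GrTilde.tilde (CohB1.polyGrading r k) (fun n : ℕ => ℳ (n : ℤ)) 0) d ↔
      ∀ i : ℕ, 1 ≤ i → i ≤ r → E.Hcomp (GrSyz.irrel (GrSyz.stdGr k (Fin (r + 1)))) (i + 1) (d - i) = ⊥ := by
  refine forall_congr' fun i => forall_congr' fun hi => forall_congr' fun _ => ?_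
  obtain ⟨j, rfl⟩ : ∃ j, i = j + 1 := ⟨i - 1, by omega⟩
  rw [← subsingleton_HH_tilde_std E j (d - ((j + 1 : ℕ) : ℤ))]
  obtain ⟨e⟩ := TwistAny.nonempty_tilde_tensor_iso (𝒜 := CohB1.polyGrading r k) (ℳ := fun n : ℕ => ℳ (n : ℤ))
    isPeriod_one (a := 0) (b := d - ((j + 1 : ℕ) : ℤ)) (c := d - ((j + 1 : ℕ) : ℤ)) (zero_add _)
    (k := d - ((j + 1 : ℕ) : ℤ)) (by simp)
  exact ⟨QCoh.subsingleton_HH_of_iso e (j + 1), QCoh.subsingleton_HH_of_iso e.symm (j + 1)⟩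

end Groth.Agent.GrLib8.SerreCorr
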