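import Groth.Agent.GrLib8.SerreCorr.Graded

/-!
# Sheaf cohomology of `M(n)~` against graded local cohomology
-/

set_option linter.unusedSectionVars false
set_option linter.style.haveILetI false
set_option maxHeartbeats 1000000

noncomputable section

universe u

open CategoryTheory CategoryTheory.Limits AlgebraicGeometry TopologicalSpace DirectSum Opposite

namespace Groth.Agent.GrLib8.SerreCorr

variable {A σ σz : Type u} [CommRing A] [SetLike σ A] [AddSubgroupClass σ A] {𝒜 : ℕ → σ} [GradedRing 𝒜]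
  [SetLike σz A] [AddSubgroupClass σz A] {𝒜z : ℤ → σz} [GradedRing 𝒜z]
  (hmem : ∀ (e : ℕ) (c : A), c ∈ 𝒜z (e : ℤ) ↔ c ∈ 𝒜 e) (hneg : ∀ (z : ℤ), z < 0 → ∀ c ∈ 𝒜z z, c = 0)
  [IsNoetherianRing A] [NoetherianSpace (Proj 𝒜)]
  {M τ : Type u} [AddCommGroup M] [Module A M] [SetLike τ M] [AddSubgroupClass τ M] {ℳ : ℤ → τ}
  [DirectSum.Decomposition ℳ] [SetLike.GradedSMul 𝒜z ℳ] [SetLike.GradedSMul 𝒜 fun n : ℕ => ℳ (n : ℤ)]
  (E : GrLC.StarInjRes 𝒜z ℳ) [∀ p, SetLike.GradedSMul 𝒜 fun n : ℕ => (E.X p).gr (n : ℤ)]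
  {a : HomogeneousIdeal 𝒜z} (ha : a.toIdeal = (HomogeneousIdeal.irrelevant 𝒜).toIdeal) (n : ℤ)

/-- The terms of the resolution of `M(n)~`. -/
def resS (p : ℕ) : (Proj 𝒜).Modules := GrMod.tilde 𝒜 (fun i : ℕ => (E.X p).gr (i : ℤ)) n

/-- The differentials of the resolution of `M(n)~`. -/
def resD (p : ℕ) : resS (𝒜 := 𝒜) E n p ⟶ resS E n (p + 1) :=
  GrMod.map 𝒜 (ℳ := fun i : ℕ => (E.X p).gr (i : ℤ)) (𝒩 := fun i : ℕ => (E.X (p + 1)).gr (i : ℤ)) (E.d p)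
    (fun i m hm => E.d_grHom p (i : ℤ) m hm) n

/-- The augmentation of the resolution of `M(n)~`. -/
def resE : GrMod.tilde 𝒜 (fun i : ℕ => ℳ (i : ℤ)) n ⟶ resS E n 0 :=
  GrMod.map 𝒜 (ℳ := fun i : ℕ => ℳ (i : ℤ)) (𝒩 := fun i : ℕ => (E.X 0).gr (i : ℤ)) E.ε
    (fun i m hm => E.ε_grHom (i : ℤ) m hm) n

include hmem in
theorem resD_exact (p : ℕ) : ∃ w : resD (𝒜 := 𝒜) E n p ≫ resD E n (p + 1) = 0,
    Epi (kernel.lift (resD E n (p + 1)) (resD E n p) w) :=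
  RegTilde.exact_map_tilde 𝒜 (ℳ := fun i : ℕ => (E.X p).gr (i : ℤ))
    (𝒩 := fun i : ℕ => (E.X (p + 1)).gr (i : ℤ)) (𝒬 := fun i : ℕ => (E.X (p + 1 + 1)).gr (i : ℤ))
    (E.d p) (fun i m hm => E.d_grHom p (i : ℤ) m hm) (E.d (p + 1)) (fun i m hm => E.d_grHom (p + 1) (i : ℤ) m hm)
    (LinearMap.ext fun m => LinearMap.mem_ker.1 ((E.exact_succ p).ge ⟨m, rfl⟩))
    (fun _ _ _ hp hc e => ann_component hmem hp hc e)
    (fun i y hy hv => by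
      obtain ⟨m, hm, hmy⟩ := exists_preimage_mem (E.d p) (isGrHomDeg_zero_iff.2 (E.d_grHom p)) hy
        ((E.exact_succ p).le (LinearMap.mem_ker.2 hv))
      rw [sub_zero] at hm
      exact ⟨m, hm, hmy⟩) n

include hmem in
theorem resE_exact : ∃ w : resE (𝒜 := 𝒜) E n ≫ resD E n 0 = 0,
    Epi (kernel.lift (resD E n 0) (resE E n) w) :=
  RegTilde.exact_map_tilde 𝒜 (ℳ := fun i : ℕ => ℳ (i : ℤ))
    (𝒩 := fun i : ℕ => (E.X 0).gr (i : ℤ)) (𝒬 := fun i : ℕ => (E.X (0 + 1)).gr (i : ℤ))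
    E.ε (fun i m hm => E.ε_grHom (i : ℤ) m hm) (E.d 0) (fun i m hm => E.d_grHom 0 (i : ℤ) m hm)
    (LinearMap.ext fun m => LinearMap.mem_ker.1 (E.exact_zero.ge ⟨m, rfl⟩))
    (fun _ _ _ hp hc e => ann_component hmem hp hc e)
    (fun i y hy hv => by
      obtain ⟨m, hm, hmy⟩ := exists_preimage_mem E.ε (isGrHomDeg_zero_iff.2 E.ε_grHom) hy
        (E.exact_zero.le (LinearMap.mem_ker.2 hv))
      rw [sub_zero] at hm
      exact ⟨m, hm, hmy⟩) n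

theorem mono_resE : Mono (resE (𝒜 := 𝒜) E n) :=
  mono_map_of_injective E.ε E.ε_grHom E.ε_injective n

include hmem hneg in
theorem resS_acyclic (p q : ℕ) : Subsingleton (Coh.HH (Proj 𝒜) (resS E n p) (q + 1)) :=
  subsingleton_HH_tilde (homAnn hmem) n (hasExt_of_starInj hmem hneg (E.X p) (E.starInj p) n)
    (fun _ hx => shift_of_mem hmem hx) q

include hmem hneg ha in
/-- `H^{i+1}(M(n)~) = 0` if and only if `H^{i+2}_a(M)_n = 0`. -/
theorem subsingleton_HH_tilde_iff (i : ℕ) :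
    Subsingleton (Coh.HH (Proj 𝒜) (GrMod.tilde 𝒜 (fun i : ℕ => ℳ (i : ℤ)) n) (i + 1)) ↔
      E.Hcomp a (i + 2) n = ⊥ := by
  haveI := mono_resE (𝒜 := 𝒜) E n
  refine (subsingleton_HH_iff_exact (resS E n) (resD E n) (resE E n) (resD_exact hmem E n) (resE_exact hmem E n)
    (resS_acyclic hmem hneg E n) i).trans ?_
  refine Iff.trans ?_ (exact_sections_iff hmem hneg E ha n (i + 1) (E.d i) (E.d_grHom i) (E.exact_succ i))
  refine forall_congr' fun t => imp_congr_right fun _ => ⟨?_, ?_⟩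
  · rintro ⟨y, hy⟩
    obtain ⟨x, hx, rfl⟩ := exists_gs_eq hmem hneg E n i y
    exact ⟨x, hx, (map_gs hmem (E.d i) (E.d_grHom i) x hx).symm.trans hy⟩
  · rintro ⟨x, hx, hxt⟩
    exact ⟨gs hmem x hx, (map_gs hmem (E.d i) (E.d_grHom i) x hx).trans hxt⟩

include hmem hneg ha in
/-- `M_n → Γ(M(n)~)` is onto if and only if `H^1_a(M)_n = 0`. -/
theorem surjective_gs_iff :
    (∀ s : Γ(GrMod.tilde 𝒜 (fun i : ℕ => ℳ (i : ℤ)) n, (⊤ : (Proj 𝒜).Opens)),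
      ∃ (m : M) (hm : m ∈ ℳ n), gs hmem m hm = s) ↔ E.Hcomp a 1 n = ⊥ := by
  haveI := mono_resE (𝒜 := 𝒜) E n
  refine Iff.trans ?_ (exact_sections_iff hmem hneg E ha n 0 E.ε E.ε_grHom E.exact_zero)
  constructor
  · intro h t ht
    obtain ⟨s, hs⟩ := range_app_top (resS E n) (resD E n) (resE E n) (resD_exact hmem E n) (resE_exact hmem E n) t ht
    obtain ⟨m, hm, rfl⟩ := h s
    exact ⟨m, hm, (map_gs hmem E.ε E.ε_grHom m hm).symm.trans hs⟩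
  · intro h s
    obtain ⟨w, -⟩ := resE_exact hmem E n
    obtain ⟨m, hm, hms⟩ := h ((resE E n).app ⊤ s)
      (congrArg (fun ψ : GrMod.tilde 𝒜 (fun i : ℕ => ℳ (i : ℤ)) n ⟶ _ => ψ.app ⊤ s) w)
    exact ⟨m, hm, QCoh.app_injective (resE (𝒜 := 𝒜) E n) ⊤ ((map_gs hmem E.ε E.ε_grHom m hm).trans hms)⟩

end Groth.Agent.GrLib8.SerreCorr
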