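import Groth.Agent.QCoh.GodHH
import Groth.Agent.QCoh.HHExact
import Groth.Agent.QCoh.OpenSub
import Groth.Agent.QCoh.Sections

/-!
# Cohomology through a resolution by acyclic sheaves, in one degree
-/

set_option linter.unusedSectionVars false
set_option linter.style.haveILetI false

noncomputable section

universe u

open CategoryTheory CategoryTheory.Limits AlgebraicGeometry TopologicalSpace Opposite
open CategoryTheory.Abelian

namespace Groth.Agent.GrLib8.SerreCorr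

variable {X : Scheme.{u}}

theorem exists_app_f_eq {S : ShortComplex X.Modules} (hS : S.ShortExact) (t : Γ(S.X₂, ⊤)) (ht : S.g.app ⊤ t = 0) :
    ∃ y : Γ(S.X₁, ⊤), S.f.app ⊤ y = t := by
  let T := S.map (QCoh.toAbFunctor X)
  have hT : T.ShortExact := QCoh.toAb_shortExact hS
  have h0 : Sheaf.H.map T.g 0 ((Sheaf.H.equiv₀ T.X₂ isTerminalTop).symm t) = 0 := by
    apply (Sheaf.H.equiv₀ T.X₃ isTerminalTop).injective
    refine (Sheaf.H.equiv₀_naturality isTerminalTop T.g _).symm.trans ?_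
    rw [AddEquiv.apply_symm_apply, map_zero]
    exact ht
  obtain ⟨y, hy⟩ := Ext.covariant_sequence_exact₂ _ hT _ h0
  refine ⟨Sheaf.H.equiv₀ T.X₁ isTerminalTop y, ?_⟩
  refine (Sheaf.H.equiv₀_naturality isTerminalTop T.f y).trans ?_
  rw [show Sheaf.H.map T.f 0 y = _ from hy]
  exact AddEquiv.apply_symm_apply _ _

theorem subsingleton_HH_one_iff {S : ShortComplex X.Modules} (hS : S.ShortExact)
    (h₂ : Subsingleton (Coh.HH X S.X₂ 1)) :
    Subsingleton (Coh.HH X S.X₁ 1) ↔ Function.Surjective (S.g.app ⊤) := by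
  refine ⟨QCoh.app_top_surjective_of_HH_one hS, fun h => subsingleton_of_forall_eq 0 fun x => ?_⟩
  let T := S.map (QCoh.toAbFunctor X)
  have hT : T.ShortExact := QCoh.toAb_shortExact hS
  obtain ⟨y, rfl⟩ := QCoh.Ab.connecting_surjective (X := X.toPresheafedSpace.carrier) hT 0 h₂ x
  refine (QCoh.Ab.connecting_eq_zero_iff (X := X.toPresheafedSpace.carrier) hT 0 y).2 ?_
  obtain ⟨a, ha⟩ := h (Sheaf.H.equiv₀ T.X₃ isTerminalTop y)
  refine ⟨(Sheaf.H.equiv₀ T.X₂ isTerminalTop).symm a, ?_⟩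
  apply (Sheaf.H.equiv₀ T.X₃ isTerminalTop).injective
  refine ((Sheaf.H.equiv₀_naturality isTerminalTop T.g _).symm).trans ?_
  rw [AddEquiv.apply_symm_apply]
  exact ha

theorem subsingleton_HH_succ_iff {S : ShortComplex X.Modules} (hS : S.ShortExact) (q : ℕ)
    (h₂ : Subsingleton (Coh.HH X S.X₂ q)) (h₂' : Subsingleton (Coh.HH X S.X₂ (q + 1))) :
    Subsingleton (Coh.HH X S.X₁ (q + 1)) ↔ Subsingleton (Coh.HH X S.X₃ q) := by
  have hb := QCoh.Ab.connecting_bijective (X := X.toPresheafedSpace.carrier) (QCoh.toAb_shortExact hS) q h₂ h₂'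
  exact (Equiv.ofBijective _ hb).subsingleton_congr.symm

variable {G : X.Modules} (S : ℕ → X.Modules) (d : ∀ p, S p ⟶ S (p + 1)) (ε : G ⟶ S 0) [Mono ε]
  (hd : ∀ p, ∃ w : d p ≫ d (p + 1) = 0, Epi (kernel.lift (d (p + 1)) (d p) w))
  (hε : ∃ w : ε ≫ d 0 = 0, Epi (kernel.lift (d 0) ε w))
  (hac : ∀ p q, Subsingleton (Coh.HH X (S p) (q + 1)))

include hd in
theorem exists_shortExact_kernel (p : ℕ) :
    ∃ (g : S p ⟶ kernel (d (p + 1))) (w : kernel.ι (d p) ≫ g = 0),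
      (ShortComplex.mk (kernel.ι (d p)) g w).ShortExact ∧ g ≫ kernel.ι (d (p + 1)) = d p := by
  obtain ⟨w, h⟩ := hd p
  have hz : kernel.ι (d p) ≫ kernel.lift (d (p + 1)) (d p) w = 0 := by
    rw [← cancel_mono (kernel.ι (d (p + 1))), Category.assoc, kernel.lift_ι, kernel.condition, zero_comp]
  refine ⟨kernel.lift (d (p + 1)) (d p) w, hz, { exact := ?_ }, kernel.lift_ι _ _ _⟩
  refine ShortComplex.exact_of_f_is_kernel _ (KernelFork.IsLimit.ofι' _ _ fun {W} k hk =>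
    ⟨kernel.lift (d p) k ?_, kernel.lift_ι _ _ _⟩)
  calc k ≫ d p = (k ≫ kernel.lift (d (p + 1)) (d p) w) ≫ kernel.ι (d (p + 1)) := by
        rw [Category.assoc, kernel.lift_ι]
    _ = 0 := by rw [hk, zero_comp]

include hd hac in
theorem subsingleton_HH_kernel_iff : ∀ (i p : ℕ),
    Subsingleton (Coh.HH X (kernel (d p)) (i + 1)) ↔
      ∀ t : Γ(S (p + i + 1), ⊤), (d (p + i + 1)).app ⊤ t = 0 → ∃ y : Γ(S (p + i), ⊤), (d (p + i)).app ⊤ y = t := by
  intro i
  induction i with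
  | zero =>
    intro p
    obtain ⟨g, w, hS, hg⟩ := exists_shortExact_kernel S d hd p
    obtain ⟨g', w', hS', hg'⟩ := exists_shortExact_kernel S d hd (p + 1)
    rw [subsingleton_HH_one_iff hS (hac p 0)]
    constructor
    · intro h t ht
      have ht' : g'.app ⊤ t = 0 := by
        apply QCoh.app_injective (kernel.ι (d (p + 1 + 1))) ⊤
        rw [map_zero]
        exact (congrArg (fun ψ : S (p + 1) ⟶ _ => ψ.app ⊤ t) hg').trans ht
      obtain ⟨z, hz⟩ := exists_app_f_eq hS' t ht'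
      obtain ⟨y, hy⟩ := h z
      refine ⟨y, (congrArg (fun ψ : S p ⟶ _ => ψ.app ⊤ y) hg).symm.trans ?_⟩
      exact (congrArg ((kernel.ι (d (p + 1))).app ⊤) hy).trans hz
    · intro h z
      obtain ⟨y, hy⟩ := h ((kernel.ι (d (p + 1))).app ⊤ z)
        (congrArg (fun ψ : kernel (d (p + 1)) ⟶ _ => ψ.app ⊤ z) (kernel.condition _))
      refine ⟨y, QCoh.app_injective (kernel.ι (d (p + 1))) ⊤ ?_⟩
      exact (congrArg (fun ψ : S p ⟶ _ => ψ.app ⊤ y) hg).trans hy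
  | succ i ih =>
    intro p
    obtain ⟨g, w, hS, hg⟩ := exists_shortExact_kernel S d hd p
    rw [subsingleton_HH_succ_iff hS (i + 1) (hac p i) (hac p (i + 1))]
    have e : p + 1 + i = p + (i + 1) := by omega
    exact e ▸ ih (p + 1)

include hd hε in
theorem nonempty_iso_kernel : Nonempty (G ≅ kernel (d 0)) := by
  obtain ⟨w, h⟩ := hε
  haveI : Mono (kernel.lift (d 0) ε w) := mono_of_mono_fac (kernel.lift_ι (d 0) ε w)
  haveI := isIso_of_mono_of_epi (kernel.lift (d 0) ε w)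
  exact ⟨asIso (kernel.lift (d 0) ε w)⟩

include hd hε hac in
theorem subsingleton_HH_iff_exact (i : ℕ) :
    Subsingleton (Coh.HH X G (i + 1)) ↔
      ∀ t : Γ(S (i + 1), ⊤), (d (i + 1)).app ⊤ t = 0 → ∃ y : Γ(S i, ⊤), (d i).app ⊤ y = t := by
  obtain ⟨e⟩ := nonempty_iso_kernel S d ε hd hε
  have h' := subsingleton_HH_kernel_iff S d hd hac i 0
  have h : Subsingleton (Coh.HH X (kernel (d 0)) (i + 1)) ↔
      ∀ t : Γ(S (i + 1), ⊤), (d (i + 1)).app ⊤ t = 0 → ∃ y : Γ(S i, ⊤), (d i).app ⊤ y = t :=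
    Eq.mp (congrArg (fun n => Subsingleton (Coh.HH X (kernel (d 0)) (i + 1)) ↔
      ∀ t : Γ(S (n + 1), ⊤), (d (n + 1)).app ⊤ t = 0 → ∃ y : Γ(S n, ⊤), (d n).app ⊤ y = t) (zero_add i)) h'
  clear h'
  exact ⟨fun h' => h.1 (QCoh.subsingleton_HH_of_iso e (i + 1) h'),
    fun h' => QCoh.subsingleton_HH_of_iso e.symm (i + 1) (h.2 h')⟩

include hd hε in
theorem range_app_top (t : Γ(S 0, ⊤)) (ht : (d 0).app ⊤ t = 0) : ∃ y : Γ(G, ⊤), ε.app ⊤ y = t := by
  obtain ⟨g, w, hS, hg⟩ := exists_shortExact_kernel S d hd 0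
  have ht' : g.app ⊤ t = 0 := by
    apply QCoh.app_injective (kernel.ι (d 1)) ⊤
    rw [map_zero]
    exact (congrArg (fun ψ : S 0 ⟶ _ => ψ.app ⊤ t) hg).trans ht
  obtain ⟨z, hz⟩ := exists_app_f_eq hS t ht'
  obtain ⟨w', h⟩ := hε
  haveI : Mono (kernel.lift (d 0) ε w') := mono_of_mono_fac (kernel.lift_ι (d 0) ε w')
  haveI := isIso_of_mono_of_epi (kernel.lift (d 0) ε w')
  refine ⟨(inv (kernel.lift (d 0) ε w')).app ⊤ z, Eq.trans ?_ hz⟩
  have he : inv (kernel.lift (d 0) ε w') ≫ ε = kernel.ι (d 0) := by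
    rw [IsIso.inv_comp_eq, kernel.lift_ι]
  exact congrArg (fun ψ : kernel (d 0) ⟶ S 0 => ψ.app ⊤ z) he

end Groth.Agent.GrLib8.SerreCorr
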