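import Groth.Agent.GrLib8.SerreCorr.Sect
import Groth.Agent.GrLib8.SerreCorr.Les
import Groth.Agent.GrLib8.RegTilde.Exact
import Groth.Agent.GrLib8.Basic
import Groth.Agent.GrLib8.DegMap
import Groth.Agent.GrLib8.Grading
import Groth.Agent.GrLib8.Res
import Groth.Prelude.Def_GrLC

/-!
# Serre's comparison through a `*`injective resolution
-/

set_option linter.unusedSectionVars false
set_option linter.style.haveILetI false
set_option maxHeartbeats 1000000

noncomputable section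

universe u

open CategoryTheory CategoryTheory.Limits AlgebraicGeometry TopologicalSpace DirectSum Opposite

namespace Groth.Agent.GrLib8.SerreCorr

variable {A σ σz : Type u} [CommRing A] [SetLike σ A] [AddSubgroupClass σ A] {𝒜 : ℕ → σ} [GradedRing 𝒜]
  [SetLike σz A] [AddSubgroupClass σz A] {𝒜z : ℤ → σz} [GradedRing 𝒜z]
  (hmem : ∀ (e : ℕ) (c : A), c ∈ 𝒜z (e : ℤ) ↔ c ∈ 𝒜 e) (hneg : ∀ (z : ℤ), z < 0 → ∀ c ∈ 𝒜z z, c = 0)

include hmem in
theorem decompose_eq (c : A) (e : ℕ) : (decompose 𝒜 c e : A) = (decompose 𝒜z c (e : ℤ) : A) := by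
  classical
  induction c using DirectSum.Decomposition.inductionOn 𝒜 with
  | zero => simp
  | homogeneous b =>
    rename_i i
    have hb : (b : A) ∈ 𝒜z (i : ℤ) := (hmem i b).2 b.2
    rcases eq_or_ne i e with h | h
    · subst h
      rw [decompose_of_mem_same 𝒜 b.2, decompose_of_mem_same 𝒜z hb]
    · rw [decompose_of_mem_ne 𝒜 b.2 h, decompose_of_mem_ne 𝒜z hb (by simpa using h)]
  | add a b ha hb =>
    rw [decompose_add, decompose_add, DirectSum.add_apply, DirectSum.add_apply, AddMemClass.coe_add,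
      AddMemClass.coe_add, ha, hb]

section Module

variable {M τ : Type u} [AddCommGroup M] [Module A M] [SetLike τ M] [AddSubgroupClass τ M] {ℳ : ℤ → τ}
  [DirectSum.Decomposition ℳ] [SetLike.GradedSMul 𝒜z ℳ] [SetLike.GradedSMul 𝒜 fun n : ℕ => ℳ (n : ℤ)]

include hmem in
theorem ann_component {i : ℤ} {p : M} (hp : p ∈ ℳ i) {c : A} (hc : c • p = 0) (e : ℕ) :
    (decompose 𝒜 c e : A) • p = 0 := by
  have h1 := decompose_smul_of_mem 𝒜z ℳ hp c ((e : ℤ) + i)
  rw [hc, decompose_zero, DirectSum.zero_apply, ZeroMemClass.coe_zero, add_sub_cancel_right] at h1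
  rw [decompose_eq hmem]
  exact h1.symm

include hmem in
theorem homAnn : HomAnn 𝒜 (fun n : ℕ => ℳ (n : ℤ)) := fun _ _ _ hp hc e => ann_component hmem hp hc e

include hmem in
theorem shift_of_mem {n : ℤ} {x : M} (hx : x ∈ ℳ n) : Shift 𝒜 (fun i : ℕ => ℳ (i : ℤ)) n x :=
  fun e j hj a ha => by
    have h := SetLike.GradedSMul.smul_mem (A := 𝒜z) (B := ℳ) ((hmem e a).2 ha) hx
    show a • x ∈ ℳ (j : ℤ)
    rw [← hj]
    exact h

/-- The global section of an element of degree `n`. -/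
abbrev gs {n : ℤ} (x : M) (hx : x ∈ ℳ n) :
    Γ(GrMod.tilde 𝒜 (fun i : ℕ => ℳ (i : ℤ)) n, (⊤ : (Proj 𝒜).Opens)) :=
  globSect n x (shift_of_mem hmem hx)

variable {a : HomogeneousIdeal 𝒜z} (ha : a.toIdeal = (HomogeneousIdeal.irrelevant 𝒜).toIdeal)
  (hfg : a.toIdeal.FG)

include hmem ha hfg in
theorem gs_eq_iff {n : ℤ} {x x' : M} (hx : x ∈ ℳ n) (hx' : x' ∈ ℳ n) :
    gs (𝒜 := 𝒜) hmem x hx = gs hmem x' hx' ↔ x - x' ∈ GrLC.gam a.toIdeal M := by
  classical
  rw [globSect_eq_iff]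
  have hI : (LinearMap.ker (LinearMap.toSpanSingleton A M (x - x')) : Ideal A).IsHomogeneous 𝒜 := fun e c hc =>
    ann_component hmem (sub_mem hx hx') hc e
  constructor
  · intro h
    let J : Ideal A := LinearMap.ker (LinearMap.toSpanSingleton A M (x - x'))
    have hle : a.toIdeal ≤ J.radical := by
      intro f hf
      rw [← sum_support_decompose 𝒜 f]
      refine Ideal.sum_mem _ fun e _ => ?_
      rcases Nat.eq_zero_or_pos e with rfl | he
      · have h0 : f ∈ (HomogeneousIdeal.irrelevant 𝒜).toIdeal := ha ▸ hf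
        rw [show (decompose 𝒜 f 0 : A) = 0 from h0]
        exact zero_mem _
      · exact GrModX.mem_radical_of_forall 𝒜 hI he (SetLike.coe_mem _) fun y _ =>
          let ⟨c, hc, hcx⟩ := h y
          ⟨c, hcx, hc⟩
    obtain ⟨N, hN⟩ := Ideal.exists_pow_le_of_le_radical_of_fg hle hfg
    exact ⟨N, fun r hr => hN hr⟩
  · rintro ⟨N, hN⟩ y
    obtain ⟨f, hf, hfy⟩ := SetLike.not_le_iff_exists.1 y.not_irrelevant_le
    exact ⟨f ^ N, GrModX.pow_notMem y.isPrime hfy N, hN _ (Ideal.pow_mem_pow (ha ▸ hf) N)⟩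

include hmem in
theorem gs_congr {n : ℤ} {x x' : M} (hx : x ∈ ℳ n) (hx' : x' ∈ ℳ n) (h : x = x') :
    gs (𝒜 := 𝒜) hmem x hx = gs hmem x' hx' := by subst h; rfl

end Module

section Maps

variable {M τ : Type u} [AddCommGroup M] [Module A M] [SetLike τ M] [AddSubgroupClass τ M] {ℳ : ℤ → τ}
  [DirectSum.Decomposition ℳ] [SetLike.GradedSMul 𝒜z ℳ] [SetLike.GradedSMul 𝒜 fun n : ℕ => ℳ (n : ℤ)]
variable {N τ' : Type u} [AddCommGroup N] [Module A N] [SetLike τ' N] [AddSubgroupClass τ' N] {𝒩 : ℤ → τ'}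
  [DirectSum.Decomposition 𝒩] [SetLike.GradedSMul 𝒜z 𝒩] [SetLike.GradedSMul 𝒜 fun n : ℕ => 𝒩 (n : ℤ)]
variable (f : M →ₗ[A] N) (hf : GrLC.IsGrHom ℳ 𝒩 f)

include hmem in
theorem map_gs {n : ℤ} (x : M) (hx : x ∈ ℳ n) :
    (GrMod.map 𝒜 (ℳ := fun i : ℕ => ℳ (i : ℤ)) (𝒩 := fun i : ℕ => 𝒩 (i : ℤ)) f
      (fun i m hm => hf (i : ℤ) m hm) n).app ⊤ (gs hmem x hx) = gs hmem (f x) (hf n x hx) :=
  GrModX.ext_val 𝒜 (fun i : ℕ => 𝒩 (i : ℤ)) fun y => GrMod.locMap_mk f y.1 x 1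

include hf in
theorem mono_map_of_injective (hinj : Function.Injective f) (n : ℤ) :
    Mono (GrMod.map 𝒜 (ℳ := fun i : ℕ => ℳ (i : ℤ)) (𝒩 := fun i : ℕ => 𝒩 (i : ℤ)) f
      (fun i m hm => hf (i : ℤ) m hm) n) := by
  refine ⟨fun {W} g g' e => Scheme.Modules.hom_ext _ _ fun U => ?_⟩
  ext w
  refine GrModX.ext_val 𝒜 (fun i : ℕ => ℳ (i : ℤ)) fun y => ?_
  apply LocalizedModule.map_injective y.1.asHomogeneousIdeal.toIdeal.primeCompl f hinj
  exact congrArg (fun ψ : W ⟶ _ => GrMod.val (ψ.app U w) y) e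

end Maps

section Injective

include hmem hneg in
theorem hasExt_of_starInj (X : GrLC.GMod.{u} 𝒜z) [SetLike.GradedSMul 𝒜 fun n : ℕ => X.gr (n : ℤ)]
    (hX : GrLC.IsStarInj 𝒜z X.gr) (n : ℤ) :
    HasExt 𝒜 (fun i : ℕ => X.gr (i : ℤ)) n (fun x => x ∈ X.gr n) := by
  classical
  intro ι _ G E m hG hm hrel
  let B := shiftGMod 𝒜z 𝒜z (-n)
  let φ : (ι → A) →ₗ[A] A := Fintype.linearCombination A G
  let ψ : (ι → A) →ₗ[A] X.carrier := Fintype.linearCombination A m
  have hker : LinearMap.ker φ ≤ LinearMap.ker ψ := fun c hc => by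
    rw [LinearMap.mem_ker, Fintype.linearCombination_apply] at hc ⊢
    exact hrel c (by simpa [smul_eq_mul] using hc)
  have hcomp : ∀ (j : A), j ∈ LinearMap.range φ → ∀ z : ℤ, ∃ c : ι → A,
      φ c = (decompose 𝒜z j (z - n) : A) ∧ ψ c ∈ X.gr z := by
    rintro j ⟨c, rfl⟩ z
    refine ⟨fun a => (decompose 𝒜z (c a) (z - n - E a) : A), ?_, ?_⟩
    · simp only [φ, Fintype.linearCombination_apply, smul_eq_mul]
      rw [decompose_sum, DirectSum.sum_apply, AddSubmonoidClass.coe_finsetSum]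
      exact Finset.sum_congr rfl fun a _ =>
        (decompose_smul_of_mem 𝒜z 𝒜z ((hmem (E a) (G a)).2 (hG a)) (c a) (z - n)).symm
    · simp only [ψ, Fintype.linearCombination_apply]
      refine AddSubgroup.sum_mem _ fun a _ => ?_
      rcases hm a with h0 | ⟨i, hi, hmi⟩
      · rw [h0, smul_zero]; exact zero_mem _
      · have h := SetLike.GradedSMul.smul_mem (A := 𝒜z) (B := X.gr) (SetLike.coe_mem (decompose 𝒜z (c a) (z - n - E a))) hmi
        rwa [vadd_eq_add, hi, show z - n - (E a : ℤ) + ((E a : ℤ) + n) = z by ring] at h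
  let P : Submodule A B.carrier := LinearMap.range φ
  have hP : P.IsHomogeneous B.gr := by
    intro z y hy
    have hsum : y = ∑ i ∈ (decompose 𝒜z (show A from y)).support, (decompose 𝒜z (show A from y) i : A) :=
      (sum_support_decompose 𝒜z _).symm
    have hmemP : ∀ i : ℤ, (decompose 𝒜z (show A from y) i : A) ∈ LinearMap.range φ := fun i => by
      obtain ⟨c, hc, -⟩ := hcomp y hy (i + n)
      rw [add_sub_cancel_right] at hc
      exact ⟨c, hc⟩
    rw [hsum]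
    clear hsum
    induction (decompose 𝒜z (show A from y)).support using Finset.induction with
    | empty =>
      show ((decompose B.gr (0 : B.carrier)) z : B.carrier) ∈ P
      simp
    | insert i s hi ih =>
      rw [Finset.sum_insert hi]
      erw [decompose_add, DirectSum.add_apply, AddMemClass.coe_add]
      refine P.add_mem ?_ ih
      have hiB : (show B.carrier from (decompose 𝒜z (show A from y) i : A)) ∈ B.gr (i + n) := by
        show (decompose 𝒜z (show A from y) i : A) ∈ 𝒜z (i + n + -n)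
        rw [add_neg_cancel_right]
        exact SetLike.coe_mem _
      rcases eq_or_ne (i + n) z with h | h
      · subst h
        erw [decompose_of_mem_same B.gr hiB]
        exact hmemP i
      · erw [decompose_of_mem_ne B.gr hiB h]
        exact P.zero_mem
  let S := subGMod 𝒜z B.gr P hP
  let ψ' : LinearMap.range φ →ₗ[A] X.carrier :=
    (LinearMap.ker φ).liftQ ψ hker ∘ₗ φ.quotKerEquivRange.symm.toLinearMap
  have hψ' : ∀ c, ψ' ⟨φ c, c, rfl⟩ = ψ c := fun c => by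
    show (LinearMap.ker φ).liftQ ψ hker (φ.quotKerEquivRange.symm ⟨φ c, _⟩) = ψ c
    rw [φ.quotKerEquivRange_symm_apply_image, Submodule.mkQ_apply, Submodule.liftQ_apply]
  obtain ⟨h, hh, hhS⟩ := hX S B P.subtype (fun _ _ hy => hy) Subtype.val_injective ψ' (fun z y hy => by
    obtain ⟨c, hc, hcm⟩ := hcomp y.1 y.2 z
    have hy' : (show A from y.1) ∈ 𝒜z (z - n) := by rw [sub_eq_add_neg]; exact hy
    rw [decompose_of_mem_same 𝒜z hy'] at hc
    have e : (y : LinearMap.range φ) = ⟨φ c, c, rfl⟩ := Subtype.ext hc.symm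
    rw [e]
    exact (hψ' c).symm ▸ hcm)
  refine ⟨h (show B.carrier from (1 : A)), hh n _ ?_, fun a => ?_⟩
  · show (1 : A) ∈ 𝒜z (n + -n)
    rw [add_neg_cancel]
    exact SetLike.one_mem_graded _
  · have h1 : φ (Pi.single a 1) = G a := by
      simp [φ, Fintype.linearCombination_apply, Pi.single_apply]
    have h2 : ψ (Pi.single a 1) = m a := by
      simp [ψ, Fintype.linearCombination_apply, Pi.single_apply]
    rw [← map_smul]
    have h3 := LinearMap.congr_fun hhS (⟨φ (Pi.single a 1), Pi.single a 1, rfl⟩ : LinearMap.range φ)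
    have h4 : G a • (show B.carrier from (1 : A)) = (show B.carrier from G a) := mul_one (G a)
    rw [h4]
    exact ((congrArg h (show (show B.carrier from G a) = φ (Pi.single a 1) from h1.symm)).trans h3).trans
      ((hψ' _).trans h2)

end Injective

section Comparison

variable [IsNoetherianRing A] [NoetherianSpace (Proj 𝒜)]
  {M τ : Type u} [AddCommGroup M] [Module A M] [SetLike τ M] [AddSubgroupClass τ M] {ℳ : ℤ → τ}
  [DirectSum.Decomposition ℳ] [SetLike.GradedSMul 𝒜z ℳ] [SetLike.GradedSMul 𝒜 fun n : ℕ => ℳ (n : ℤ)]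
  (E : GrLC.StarInjRes 𝒜z ℳ) [∀ p, SetLike.GradedSMul 𝒜 fun n : ℕ => (E.X p).gr (n : ℤ)]
  {a : HomogeneousIdeal 𝒜z} (ha : a.toIdeal = (HomogeneousIdeal.irrelevant 𝒜).toIdeal) (n : ℤ)

include hmem hneg in
theorem exists_gs_eq (p : ℕ) (t : Γ(GrMod.tilde 𝒜 (fun i : ℕ => (E.X p).gr (i : ℤ)) n, (⊤ : (Proj 𝒜).Opens))) :
    ∃ (x : (E.X p).carrier) (hx : x ∈ (E.X p).gr n), gs hmem x hx = t :=
  exists_globSect_eq (homAnn hmem) n (hasExt_of_starInj hmem hneg (E.X p) (E.starInj p) n)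
    (fun _ hx => shift_of_mem hmem hx) t

include hmem hneg ha in
/-- Exactness of the complex of sections at `q` is the vanishing of `*H^{q+1}_a(M)` in degree `n`. -/
theorem exact_sections_iff (q : ℕ) {Y τY : Type u} [AddCommGroup Y] [Module A Y] [SetLike τY Y]
    [AddSubgroupClass τY Y] {𝒴 : ℤ → τY} [DirectSum.Decomposition 𝒴] [SetLike.GradedSMul 𝒜z 𝒴]
    (δ : Y →ₗ[A] (E.X q).carrier) (hδ : GrLC.IsGrHom 𝒴 (E.X q).gr δ)
    (hrange : LinearMap.ker (E.d q) = LinearMap.range δ) :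
    (∀ t, (GrMod.map 𝒜 (ℳ := fun i : ℕ => (E.X q).gr (i : ℤ)) (𝒩 := fun i : ℕ => (E.X (q + 1)).gr (i : ℤ)) (E.d q)
        (fun i m hm => E.d_grHom q (i : ℤ) m hm) n).app ⊤ t = 0 →
      ∃ (y : Y) (hy : y ∈ 𝒴 n), gs hmem (δ y) (hδ n y hy) = t) ↔ E.Hcomp a (q + 1) n = ⊥ := by
  classical
  have hfg : a.toIdeal.FG := IsNoetherian.noetherian _
  have hzero : gs (𝒜 := 𝒜) hmem (0 : (E.X (q + 1)).carrier) (zero_mem ((E.X (q + 1)).gr n)) = 0 :=
    GrModX.ext_val 𝒜 (fun i : ℕ => (E.X (q + 1)).gr (i : ℤ)) fun y => LocalizedModule.zero_mk _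
  have hkill : ∀ (x : (E.X q).carrier) (hx : x ∈ (E.X q).gr n),
      (GrMod.map 𝒜 (ℳ := fun i : ℕ => (E.X q).gr (i : ℤ)) (𝒩 := fun i : ℕ => (E.X (q + 1)).gr (i : ℤ)) (E.d q)
        (fun i m hm => E.d_grHom q (i : ℤ) m hm) n).app ⊤ (gs hmem x hx) = 0 ↔
      E.d q x ∈ GrLC.gam a.toIdeal (E.X (q + 1)).carrier := by
    intro x hx
    rw [map_gs hmem (E.d q) (E.d_grHom q) x hx, ← hzero, gs_eq_iff hmem ha hfg, sub_zero]
  constructor
  · intro h
    rw [eq_bot_iff]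
    rintro _ ⟨⟨z, hz⟩, hzn, rfl⟩
    obtain ⟨hzg, hzk⟩ := Submodule.mem_inf.1 hz
    rw [E.exact_succ q] at hzk
    obtain ⟨x, hx, hxz⟩ := exists_preimage_mem (E.d q) (isGrHomDeg_zero_iff.2 (E.d_grHom q)) hzn hzk
    rw [sub_zero] at hx
    obtain ⟨y, hy, hyt⟩ := h (gs hmem x hx) ((hkill x hx).2 (hxz.symm ▸ hzg))
    have hv : δ y - x ∈ GrLC.gam a.toIdeal (E.X q).carrier := (gs_eq_iff hmem ha hfg _ _).1 hyt
    have hdy : E.d q (δ y) = 0 := LinearMap.mem_ker.1 (hrange.ge ⟨y, rfl⟩)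
    refine (Submodule.mem_bot _).2 ((Submodule.Quotient.mk_eq_zero _).2 ?_)
    refine ⟨x - δ y, ?_, ?_⟩
    · have h2 := Submodule.neg_mem _ hv
      rwa [neg_sub] at h2
    · rw [map_sub, hdy, sub_zero]; exact hxz
  · intro h t ht
    obtain ⟨x, hx, rfl⟩ := exists_gs_eq hmem hneg E n q t
    have hdx := (hkill x hx).1 ht
    have hz : E.d q x ∈ E.cocyc a (q + 1) :=
      ⟨hdx, LinearMap.mem_ker.2 (LinearMap.mem_ker.1 ((E.exact_succ q).ge ⟨x, rfl⟩))⟩
    have h0 : E.toH a (q + 1) ⟨_, hz⟩ ∈ E.Hcomp a (q + 1) n := ⟨⟨_, hz⟩, E.d_grHom q n x hx, rfl⟩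
    rw [h, Submodule.mem_bot] at h0
    obtain ⟨v, hv, hvx⟩ := (Submodule.Quotient.mk_eq_zero _).1 h0
    have hvn : (decompose (E.X q).gr v n : (E.X q).carrier) ∈ GrLC.gam a.toIdeal (E.X q).carrier :=
      isHomogeneous_gam (ℳ := (E.X q).gr) a n hv
    have hdv : E.d q (decompose (E.X q).gr v n : (E.X q).carrier) = E.d q x := by
      have h1 := map_decompose_deg (E.d q) (isGrHomDeg_zero_iff.2 (E.d_grHom q)) v n
      rw [add_zero] at h1
      rw [h1, show E.d q v = E.d q x from hvx, decompose_of_mem_same (E.X (q + 1)).gr (E.d_grHom q n x hx)]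
    have hr : x - (decompose (E.X q).gr v n : (E.X q).carrier) ∈ LinearMap.range δ := by
      rw [← hrange, LinearMap.mem_ker, map_sub, hdv, sub_self]
    obtain ⟨y, hy, hyx⟩ := exists_preimage_mem δ (isGrHomDeg_zero_iff.2 hδ) (sub_mem hx (SetLike.coe_mem _)) hr
    rw [sub_zero] at hy
    refine ⟨y, hy, (gs_eq_iff hmem ha hfg _ _).2 ?_⟩
    rw [hyx, sub_sub_cancel_left]
    exact Submodule.neg_mem _ hvn

end Comparison

end Groth.Agent.GrLib8.SerreCorr
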