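import Groth.Agent.GrLib8.SerreCorr.Compare

/-!
# `⊕ Γ(M(n)~) → H¹_a(M)`
-/

set_option linter.unusedSectionVars false
set_option linter.style.haveILetI false
set_option maxHeartbeats 1000000

noncomputable section

universe u

open CategoryTheory CategoryTheory.Limits AlgebraicGeometry TopologicalSpace DirectSum Opposite

namespace Groth.Agent.GrLib8.SerreCorr

variable {A σ σz : Type u} [CommRing A] [SetLike σ A] [AddSubgroupClass σ A] {𝒜 : ℕ → σ} [GradedRing 𝒜]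
  [SetLike σz A] [AddSubgroupClass σz A] {𝒜z : ℤ → σz} [GradedRing 𝒜z]
  (hmem : ∀ (e : ℕ) (c : A), c ∈ 𝒜z (e : ℤ) ↔ c ∈ 𝒜 e) (hneg : ∀ (z : ℤ), z < 0 → ∀ c ∈ 𝒜z z, c = 0)
  [IsNoetherianRing A] [NoetherianSpace (Proj 𝒜)]
  {M τ : Type u} [AddCommGroup M] [Module A M] [SetLike τ M] [AddSubgroupClass τ M] {ℳ : ℤ → τ}
  [DirectSum.Decomposition ℳ] [SetLike.GradedSMul 𝒜z ℳ] [SetLike.GradedSMul 𝒜 fun n : ℕ => ℳ (n : ℤ)]

include hmem in
theorem gs_add {X τ' : Type u} [AddCommGroup X] [Module A X] [SetLike τ' X] [AddSubgroupClass τ' X] {𝒳 : ℤ → τ'}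
    [DirectSum.Decomposition 𝒳] [SetLike.GradedSMul 𝒜z 𝒳] [SetLike.GradedSMul 𝒜 fun n : ℕ => 𝒳 (n : ℤ)]
    {n : ℤ} {x x' : X} (hx : x ∈ 𝒳 n) (hx' : x' ∈ 𝒳 n) :
    gs (𝒜 := 𝒜) hmem (x + x') (add_mem hx hx') = gs hmem x hx + gs hmem x' hx' :=
  GrModX.ext_val 𝒜 (fun i : ℕ => 𝒳 (i : ℤ)) fun y =>
    (LocalizedModule.mkLinearMap y.1.asHomogeneousIdeal.toIdeal.primeCompl X).map_add x x'

variable
  (E : GrLC.StarInjRes 𝒜z ℳ) [∀ p, SetLike.GradedSMul 𝒜 fun n : ℕ => (E.X p).gr (n : ℤ)]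
  {a : HomogeneousIdeal 𝒜z} (ha : a.toIdeal = (HomogeneousIdeal.irrelevant 𝒜).toIdeal)

include hmem hneg in
theorem exists_lift_res (n : ℤ) (s : Γ(GrMod.tilde 𝒜 (fun i : ℕ => ℳ (i : ℤ)) n, (⊤ : (Proj 𝒜).Opens))) :
    ∃ (x : (E.X 0).carrier) (hx : x ∈ (E.X 0).gr n), gs hmem x hx = (resE E n).app ⊤ s :=
  exists_gs_eq hmem hneg E n 0 _

include hmem ha in
theorem d_mem_cocyc {n : ℤ} {x : (E.X 0).carrier} (hx : x ∈ (E.X 0).gr n)
    (h : (resD (𝒜 := 𝒜) E n 0).app ⊤ (gs hmem x hx) = 0) : E.d 0 x ∈ E.cocyc a 1 := by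
  have h0 : gs (𝒜 := 𝒜) hmem (0 : (E.X 1).carrier) (zero_mem ((E.X 1).gr n)) = 0 :=
    GrModX.ext_val 𝒜 (fun i : ℕ => (E.X 1).gr (i : ℤ)) fun y => LocalizedModule.zero_mk _
  have h1 := (map_gs hmem (E.d 0) (E.d_grHom 0) x hx).symm.trans (h.trans h0.symm)
  refine ⟨?_, LinearMap.mem_ker.2 (LinearMap.mem_ker.1 ((E.exact_succ 0).ge ⟨x, rfl⟩))⟩
  have h2 := (gs_eq_iff hmem ha (IsNoetherian.noetherian _) _ _).1 h1
  rwa [sub_zero] at h2

include hmem in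
theorem resD_app_resE (n : ℤ) (s : Γ(GrMod.tilde 𝒜 (fun i : ℕ => ℳ (i : ℤ)) n, (⊤ : (Proj 𝒜).Opens))) :
    (resD E n 0).app ⊤ ((resE E n).app ⊤ s) = 0 := by
  obtain ⟨w, -⟩ := resE_exact hmem E n
  exact congrArg (fun ψ : GrMod.tilde 𝒜 (fun i : ℕ => ℳ (i : ℤ)) n ⟶ _ => ψ.app ⊤ s) w

include hmem hneg ha in
/-- The connecting map to `H¹`, its value on any lift, and its kernel. -/
theorem exists_delta (n : ℤ) :
    ∃ δ : Γ(GrMod.tilde 𝒜 (fun i : ℕ => ℳ (i : ℤ)) n, (⊤ : (Proj 𝒜).Opens)) →+ E.H a 1,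
      (∀ s (x : (E.X 0).carrier) (hx : x ∈ (E.X 0).gr n), gs hmem x hx = (resE E n).app ⊤ s →
        ∃ hz : E.d 0 x ∈ E.cocyc a 1, δ s = E.toH a 1 ⟨E.d 0 x, hz⟩) ∧
      ∀ s, δ s = 0 ↔ ∃ (m : M) (hm : m ∈ ℳ n), gs hmem m hm = s := by
  classical
  have hfg : a.toIdeal.FG := IsNoetherian.noetherian _
  choose x hx hxs using exists_lift_res hmem hneg E n
  have hz : ∀ s, E.d 0 (x s) ∈ E.cocyc a 1 := fun s => d_mem_cocyc hmem E ha (hx s) (by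
    rw [hxs s]; exact resD_app_resE hmem E n s)
  let f := fun s => E.toH a 1 ⟨E.d 0 (x s), hz s⟩
  have key : ∀ s (y : (E.X 0).carrier) (hy : y ∈ (E.X 0).gr n), gs hmem y hy = (resE E n).app ⊤ s →
      ∃ hz' : E.d 0 y ∈ E.cocyc a 1, f s = E.toH a 1 ⟨E.d 0 y, hz'⟩ := by
    intro s y hy hys
    refine ⟨d_mem_cocyc hmem E ha hy (by rw [hys]; exact resD_app_resE hmem E n s),
      (Submodule.Quotient.eq _).2 ⟨x s - y, ?_, map_sub _ _ _⟩⟩
    exact (gs_eq_iff hmem ha hfg _ _).1 ((hxs s).trans hys.symm)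
  have hadd : ∀ s t, f (s + t) = f s + f t := by
    intro s t
    obtain ⟨h, e⟩ := key (s + t) (x s + x t) (add_mem (hx s) (hx t))
      ((gs_add hmem (hx s) (hx t)).trans ((congrArg₂ (· + ·) (hxs s) (hxs t)).trans (map_add _ s t).symm))
    rw [e]
    refine Eq.trans (congrArg (E.toH a 1) ?_) (map_add (E.toH a 1) ⟨_, hz s⟩ ⟨_, hz t⟩)
    exact Subtype.ext (map_add (E.d 0) (x s) (x t))
  refine ⟨AddMonoidHom.mk' f hadd, key, fun s => ?_⟩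
  constructor
  · intro h0
    obtain ⟨v, hv, hvx⟩ := (Submodule.Quotient.mk_eq_zero _).1 h0
    have hvx' : E.d 0 v = E.d 0 (x s) := hvx
    have hvn : (decompose (E.X 0).gr v n : (E.X 0).carrier) ∈ GrLC.gam a.toIdeal (E.X 0).carrier :=
      isHomogeneous_gam (ℳ := (E.X 0).gr) a n hv
    have hdv : E.d 0 (decompose (E.X 0).gr v n : (E.X 0).carrier) = E.d 0 (x s) := by
      have h1 := map_decompose_deg (E.d 0) (isGrHomDeg_zero_iff.2 (E.d_grHom 0)) v n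
      rw [add_zero] at h1
      rw [h1, hvx', decompose_of_mem_same (E.X (0 + 1)).gr (E.d_grHom 0 n (x s) (hx s))]
    have hr : x s - (decompose (E.X 0).gr v n : (E.X 0).carrier) ∈ LinearMap.range E.ε := by
      rw [← E.exact_zero, LinearMap.mem_ker, map_sub, hdv, sub_self]
    obtain ⟨m, hm, hmx⟩ := exists_preimage_mem E.ε (isGrHomDeg_zero_iff.2 E.ε_grHom)
      (sub_mem (hx s) (SetLike.coe_mem _)) hr
    rw [sub_zero] at hm
    haveI := mono_resE (𝒜 := 𝒜) E n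
    refine ⟨m, hm, QCoh.app_injective (resE (𝒜 := 𝒜) E n) ⊤ ?_⟩
    refine (map_gs hmem E.ε E.ε_grHom m hm).trans (Eq.trans ?_ (hxs s))
    refine (gs_eq_iff hmem ha hfg _ _).2 ?_
    rw [hmx, sub_sub_cancel_left]
    exact Submodule.neg_mem _ hvn
  · rintro ⟨m, hm, rfl⟩
    obtain ⟨h, e⟩ := key _ (E.ε m) (E.ε_grHom n m hm) (map_gs hmem E.ε E.ε_grHom m hm).symm
    show f _ = 0
    rw [e, show (⟨E.d 0 (E.ε m), h⟩ : E.cocyc a 1) = 0 from
      Subtype.ext (LinearMap.mem_ker.1 (E.exact_zero.ge ⟨m, rfl⟩)), map_zero]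

include hmem hneg ha in
/-- The connecting maps: kernels, spanning, independence. -/
theorem exists_deltas :
    ∃ δ : ∀ n : ℤ, Γ(GrMod.tilde 𝒜 (fun i : ℕ => ℳ (i : ℤ)) n, (⊤ : (Proj 𝒜).Opens)) →+ E.H a 1,
      (∀ n s, δ n s = 0 ↔ ∃ (m : M) (hm : m ∈ ℳ n), gs hmem m hm = s) ∧
      (∀ w, w ∈ ⨆ n, (δ n).range) ∧
      ∀ (t : Finset ℤ) (s : ∀ n : ℤ, Γ(GrMod.tilde 𝒜 (fun i : ℕ => ℳ (i : ℤ)) n, (⊤ : (Proj 𝒜).Opens))),
        ∑ n ∈ t, δ n (s n) = 0 → ∀ n ∈ t, δ n (s n) = 0 := by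
  classical
  choose δ hval hker using exists_delta hmem hneg E ha
  refine ⟨δ, hker, fun w => ?_, fun t s hsum n hn => ?_⟩
  · obtain ⟨z, rfl⟩ := Submodule.mkQ_surjective _ w
    obtain ⟨z, hz⟩ := z
    have hg : ∀ i : ℤ, (decompose (E.X 1).gr z i : (E.X 1).carrier) ∈ E.cocyc a 1 := by
      intro i
      refine ⟨isHomogeneous_gam (ℳ := (E.X 1).gr) a i hz.1, LinearMap.mem_ker.2 ?_⟩
      have h1 := map_decompose_deg (E.d 1) (isGrHomDeg_zero_iff.2 (E.d_grHom 1)) z i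
      rw [h1, LinearMap.mem_ker.1 hz.2, decompose_zero]; rfl
    have e : (⟨z, hz⟩ : E.cocyc a 1) =
        ∑ i ∈ (decompose (E.X 1).gr z).support, ⟨_, hg i⟩ :=
      Subtype.ext (by rw [Submodule.coe_sum]; exact (sum_support_decompose (E.X 1).gr z).symm)
    rw [e, map_sum]
    refine AddSubgroup.sum_mem _ fun i _ => AddSubgroup.mem_iSup_of_mem i ?_
    obtain ⟨x, hx, hxz⟩ := exists_preimage_mem (E.d 0) (isGrHomDeg_zero_iff.2 (E.d_grHom 0))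
      (SetLike.coe_mem (decompose (E.X 1).gr z i)) ((E.exact_succ 0).le (hg i).2)
    rw [sub_zero] at hx
    have h0 : gs (𝒜 := 𝒜) hmem (0 : (E.X 1).carrier) (zero_mem ((E.X 1).gr i)) = 0 :=
      GrModX.ext_val 𝒜 (fun j : ℕ => (E.X 1).gr (j : ℤ)) fun y => LocalizedModule.zero_mk _
    haveI := mono_resE (𝒜 := 𝒜) E i
    obtain ⟨s, hs⟩ := range_app_top (resS E i) (resD E i) (resE (𝒜 := 𝒜) E i) (resD_exact hmem E i)
      (resE_exact hmem E i) (gs hmem x hx) (by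
        refine (map_gs hmem (E.d 0) (E.d_grHom 0) x hx).trans (Eq.trans ?_ h0)
        refine (gs_eq_iff hmem ha (IsNoetherian.noetherian _) _ _).2 ?_
        rw [sub_zero, hxz]
        exact (hg i).1)
    obtain ⟨h, e'⟩ := hval i s x hx hs.symm
    exact ⟨s, e'.trans (congrArg (E.toH a 1) (Subtype.ext hxz))⟩
  · choose x hx hxs using fun n => exists_lift_res hmem hneg E n (s n)
    have hz : ∀ n, E.d 0 (x n) ∈ E.cocyc a 1 := fun n => (hval n (s n) (x n) (hx n) (hxs n)).1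
    have he : ∀ n, δ n (s n) = E.toH a 1 ⟨_, hz n⟩ := fun n => (hval n (s n) (x n) (hx n) (hxs n)).2
    simp only [he, ← map_sum] at hsum ⊢
    obtain ⟨v, hv, hvx⟩ := (Submodule.Quotient.mk_eq_zero _).1 hsum
    rw [Submodule.subtype_apply, Submodule.coe_sum] at hvx
    refine (Submodule.Quotient.mk_eq_zero _).2
      ⟨_, isHomogeneous_gam (ℳ := (E.X 0).gr) a n hv, ?_⟩
    have h1 := map_decompose_deg (E.d 0) (isGrHomDeg_zero_iff.2 (E.d_grHom 0)) v n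
    rw [h1, add_zero, hvx, decompose_sum, DirectSum.sum_apply, AddSubmonoidClass.coe_finsetSum,
      Finset.sum_eq_single n]
    · exact decompose_of_mem_same (E.X (0 + 1)).gr (E.d_grHom 0 n _ (hx n))
    · exact fun j _ hj => decompose_of_mem_ne (E.X (0 + 1)).gr (E.d_grHom 0 j _ (hx j)) hj
    · exact fun h => absurd hn h

end Groth.Agent.GrLib8.SerreCorr
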