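import Groth.Agent.GrModX.Sections
import Groth.Agent.QCoh.GodHH
import Groth.Agent.QCoh.RpushGod
import Mathlib.RingTheory.Filtration

/-!
# `M(n)~` of a module with homogeneous extensions is flasque
-/

set_option linter.unusedSectionVars false
set_option linter.style.haveILetI false

noncomputable section

universe u

open CategoryTheory AlgebraicGeometry TopologicalSpace DirectSum Opposite

namespace Groth.Agent.GrLib8.SerreCorr

open GrModX (Deg pow_mem_deg pow_notMem mem_radical_of_forall fracSect)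

variable {A σ : Type u} [CommRing A] [SetLike σ A] [AddSubgroupClass σ A] (𝒜 : ℕ → σ) [GradedRing 𝒜]
variable {M τ : Type u} [AddCommGroup M] [Module A M] [SetLike τ M] [AddSubgroupClass τ M] (ℳ : ℕ → τ)
variable [SetLike.GradedSMul 𝒜 ℳ]

/-- Annihilators of homogeneous elements are homogeneous. -/
def HomAnn : Prop :=
  ∀ (c : A) (i : ℕ) (p : M), p ∈ ℳ i → c • p = 0 → ∀ e, (decompose 𝒜 c e : A) • p = 0

/-- `x` has degree `n`, as far as the pieces of non-negative degree can see. -/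
def Shift (n : ℤ) (x : M) : Prop :=
  ∀ (e j : ℕ), (e : ℤ) + n = j → ∀ a ∈ 𝒜 e, a • x ∈ ℳ j

/-- Homogeneous maps of degree `n` from finitely generated homogeneous ideals extend. -/
def HasExt (n : ℤ) (Q : M → Prop) : Prop :=
  ∀ (ι : Type u) [Fintype ι] (G : ι → A) (E : ι → ℕ) (m : ι → M), (∀ a, G a ∈ 𝒜 (E a)) →
    (∀ a, Deg ℳ ((E a : ℤ) + n) (m a)) → (∀ c : ι → A, ∑ a, c a * G a = 0 → ∑ a, c a • m a = 0) →
      ∃ x, Q x ∧ ∀ a, G a • x = m a

variable {𝒜 ℳ}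

theorem exists_pow_smul_eq_zero (hP : HomAnn 𝒜 ℳ) {f : A} {d : ℕ} (hd : 0 < d) (hf : f ∈ 𝒜 d) {z : ℤ} {m : M}
    (hm : Deg ℳ z m)
    (h : ∀ x : ProjectiveSpectrum 𝒜, f ∉ x.asHomogeneousIdeal →
      ∃ c : A, c ∉ x.asHomogeneousIdeal ∧ c • m = 0) :
    ∃ N : ℕ, f ^ N • m = 0 := by
  rcases hm with rfl | ⟨i, -, hi⟩
  · exact ⟨0, smul_zero _⟩
  have hI : (LinearMap.ker (LinearMap.toSpanSingleton A M m) : Ideal A).IsHomogeneous 𝒜 := fun e c hc =>
    hP c i m hi hc e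
  obtain ⟨N, hN⟩ := mem_radical_of_forall 𝒜 hI hd hf fun x hx =>
    let ⟨c, hc, hcm⟩ := h x hx
    ⟨c, hcm, hc⟩
  exact ⟨N, hN⟩

/-- Near any point a section is one fraction with denominator cutting out the neighbourhood. -/
theorem exists_local_frac (n : ℤ) {U : (Proj 𝒜).Opens} (sec : Γ(GrMod.tilde 𝒜 ℳ n, U)) (x : U) :
    ∃ (g : A) (e : ℕ) (m : M), 0 < e ∧ g ∈ 𝒜 e ∧ Deg ℳ ((e : ℤ) + n) m ∧
      g ∉ x.1.asHomogeneousIdeal ∧ ProjectiveSpectrum.basicOpen 𝒜 g ≤ U ∧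
      ∀ (y : U) (hy : g ∉ y.1.asHomogeneousIdeal),
        GrMod.val sec y = LocalizedModule.mk m ⟨g, hy⟩ := by
  classical
  obtain ⟨V, hxV, iV, i, j, ⟨m, hm⟩, ⟨t, ht⟩, hnin, hdeg, hval⟩ :=
    (sec : GrMod.sect 𝒜 ℳ n (op U)).2 x
  obtain ⟨_, ⟨g₀, rfl⟩, hxg, hgV⟩ :=
    (ProjectiveSpectrum.isTopologicalBasis_basic_opens 𝒜).exists_subset_of_mem_open hxV V.2
  rw [SetLike.mem_coe, ProjectiveSpectrum.basicOpen_eq_union_of_projection, Opens.mem_iSup] at hxg
  obtain ⟨e₀, hxe⟩ := hxg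
  obtain ⟨f, hf', hfx⟩ := SetLike.not_le_iff_exists.1 x.1.not_irrelevant_le
  obtain ⟨d, hd'⟩ : ∃ e, (decompose 𝒜 f e : A) ∉ x.1.asHomogeneousIdeal := by
    by_contra! hall
    exact hfx (by rw [← sum_support_decompose 𝒜 f]; exact Ideal.sum_mem _ fun i _ => hall i)
  have hd : 0 < d := by
    rcases Nat.eq_zero_or_pos d with rfl | h
    · exact absurd (by rw [show (decompose 𝒜 f 0 : A) = 0 from hf']; exact zero_mem _) hd'
    · exact h
  let g : A := GradedRing.proj 𝒜 e₀ g₀ * (decompose 𝒜 f d : A)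
  have hg : g ∈ 𝒜 (e₀ + d) := SetLike.mul_mem_graded (SetLike.coe_mem _) (SetLike.coe_mem _)
  have hgx : g ∉ x.1.asHomogeneousIdeal := fun h => (x.1.isPrime.mem_or_mem h).elim hxe hd'
  have hgsub : ∀ y : ProjectiveSpectrum 𝒜, g ∉ y.asHomogeneousIdeal → y ∈ V := fun y hy => by
    refine hgV ?_
    rw [SetLike.mem_coe, ProjectiveSpectrum.basicOpen_eq_union_of_projection, Opens.mem_iSup]
    exact ⟨e₀, fun h => hy (y.asHomogeneousIdeal.toIdeal.mul_mem_right _ h)⟩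
  have hIt : (Ideal.span {t} : Ideal A).IsHomogeneous 𝒜 :=
    Ideal.homogeneous_span 𝒜 _ fun a ha => ⟨j, by rw [Set.mem_singleton_iff.mp ha]; exact ht⟩
  obtain ⟨N, hN⟩ := mem_radical_of_forall 𝒜 hIt (Nat.add_pos_right e₀ hd) hg
    fun y hy => ⟨t, Ideal.mem_span_singleton_self t, hnin ⟨y, hgsub y hy⟩⟩
  obtain ⟨c, hc⟩ := Ideal.mem_span_singleton'.mp hN
  have hc' : c * g * t = g ^ (N + 1) := by rw [pow_succ, ← hc]; ring
  have hG : g ^ (N + 1) ∈ 𝒜 ((N + 1) * (e₀ + d)) := pow_mem_deg 𝒜 hg _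
  set E := (N + 1) * (e₀ + d) with hE
  have hE0 : 0 < E := Nat.mul_pos N.succ_pos (Nat.add_pos_right e₀ hd)
  have hcomp : g ^ (N + 1) = (decompose 𝒜 (c * g * t) E : A) := by
    rw [hc', decompose_of_mem_same 𝒜 hG]
  have hjE : j ≤ E := by
    by_contra hlt
    rw [coe_decompose_mul_of_right_mem_of_not_le 𝒜 ht hlt] at hcomp
    exact pow_notMem x.1.isPrime hgx (N + 1) (hcomp ▸ zero_mem _)
  rw [coe_decompose_mul_of_right_mem_of_le 𝒜 ht hjE] at hcomp
  set c' : A := (decompose 𝒜 (c * g) (E - j) : A) with hcdef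
  have hc'm : c' ∈ 𝒜 (E - j) := SetLike.coe_mem _
  refine ⟨g ^ (N + 1), E, c' • m, hE0, hG, ?_, pow_notMem x.1.isPrime hgx _, ?_, ?_⟩
  · rcases hdeg with hi | h0
    · exact ((GrModX.deg_of_mem hm).smul 𝒜 hc'm).congr (by omega)
    · exact Or.inl (by rw [show m = 0 from h0, smul_zero])
  · rw [ProjectiveSpectrum.basicOpen_pow 𝒜 g (N + 1) N.succ_pos]
    exact fun y hy => iV.le (hgsub y hy)
  · intro y hy
    have hyg : g ∉ y.1.asHomogeneousIdeal := fun h => hy (y.1.asHomogeneousIdeal.toIdeal.pow_mem_of_mem h _ N.succ_pos)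
    refine (hval ⟨y.1, hgsub y.1 hyg⟩).trans ?_
    rw [LocalizedModule.mk_eq]
    refine ⟨1, ?_⟩
    simp only [one_smul, Submonoid.smul_def]
    rw [smul_smul, mul_comm t, hcomp]

/-- A section over a quasi-compact open is described by finitely many compatible fractions. -/
theorem exists_compatible_family (hP : HomAnn 𝒜 ℳ) (n : ℤ) {U : (Proj 𝒜).Opens} (hU : IsCompact (U : Set (Proj 𝒜)))
    (sec : Γ(GrMod.tilde 𝒜 ℳ n, U)) :
    ∃ (ι : Type u) (_ : Fintype ι) (G : ι → A) (E : ι → ℕ) (m : ι → M),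
      (∀ a, 0 < E a) ∧ (∀ a, G a ∈ 𝒜 (E a)) ∧ (∀ a, Deg ℳ ((E a : ℤ) + n) (m a)) ∧
      (∀ a b, G b • m a = G a • m b) ∧ (∀ y : U, ∃ a, G a ∉ y.1.asHomogeneousIdeal) ∧
      ∀ (a : ι) (y : U) (hy : G a ∉ y.1.asHomogeneousIdeal), GrMod.val sec y = LocalizedModule.mk (m a) ⟨G a, hy⟩ := by
  classical
  choose g e m he hg hm hgx hgU hval using exists_local_frac n sec
  obtain ⟨F, hF⟩ := hU.elim_finite_subcover
    (fun x : U => (ProjectiveSpectrum.basicOpen 𝒜 (g x) : Set (ProjectiveSpectrum 𝒜)))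
    (fun _ => (ProjectiveSpectrum.basicOpen 𝒜 _).2)
    (fun x hx => Set.mem_iUnion.mpr ⟨⟨x, hx⟩, hgx ⟨x, hx⟩⟩)
  have hagree : ∀ a b : F, ∃ N : ℕ, (g a * g b) ^ N • (g b • m a - g a • m b) = 0 := by
    intro a b
    refine exists_pow_smul_eq_zero hP (Nat.add_pos_left (he a) (e b))
      (SetLike.mul_mem_graded (hg a) (hg b)) (z := (e a : ℤ) + e b + n)
      ((((hm a).smul 𝒜 (hg b)).congr (by ring)).sub (((hm b).smul 𝒜 (hg a)).congr (by ring))) ?_
    intro y hy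
    have hya : g a ∉ y.asHomogeneousIdeal := fun h => hy (y.asHomogeneousIdeal.toIdeal.mul_mem_right _ h)
    have hyb : g b ∉ y.asHomogeneousIdeal := fun h => hy (y.asHomogeneousIdeal.toIdeal.mul_mem_left _ h)
    have h1 := (hval a ⟨y, hgU a hya⟩ hya).symm.trans (hval b ⟨y, hgU a hya⟩ hyb)
    rw [LocalizedModule.mk_eq] at h1
    obtain ⟨u, hu⟩ := h1
    refine ⟨u.1, u.2, ?_⟩
    simp only [Submonoid.smul_def] at hu
    rw [smul_sub, sub_eq_zero]
    exact hu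
  choose N hN using hagree
  let N₀ := ∑ a : F, ∑ b : F, N a b
  have hN₀ : ∀ a b : F, (g a * g b) ^ N₀ • (g b • m a - g a • m b) = 0 := by
    intro a b
    have hle : N a b ≤ N₀ :=
      (Finset.single_le_sum (f := fun b => N a b) (fun _ _ => Nat.zero_le _) (Finset.mem_univ b)).trans
        (Finset.single_le_sum (f := fun a => ∑ b : F, N a b) (fun _ _ => Nat.zero_le _) (Finset.mem_univ a))
    obtain ⟨r, hr⟩ := Nat.exists_eq_add_of_le' hle
    rw [hr, pow_add, mul_smul, hN a b, smul_zero]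
  refine ⟨F, inferInstance, fun a => g a ^ (N₀ + 1), fun a => (N₀ + 1) * e a, fun a => g a ^ N₀ • m a,
    fun a => Nat.mul_pos N₀.succ_pos (he a), fun a => pow_mem_deg 𝒜 (hg a) _,
    fun a => ((hm a).smul 𝒜 (pow_mem_deg 𝒜 (hg a) N₀)).congr (by push_cast; ring), fun a b => ?_, fun y => ?_,
    fun a y hy => ?_⟩
  · have := hN₀ a b
    rw [smul_sub, sub_eq_zero, smul_smul, smul_smul] at this
    simp only [smul_smul]
    convert this using 2 <;> ring
  · obtain ⟨a, ha, hya⟩ := Set.mem_iUnion₂.mp (hF y.2)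
    exact ⟨⟨a, ha⟩, pow_notMem y.1.isPrime hya _⟩
  · have hyg : g a ∉ y.1.asHomogeneousIdeal := fun h => hy (y.1.asHomogeneousIdeal.toIdeal.pow_mem_of_mem h _ N₀.succ_pos)
    refine (hval a y hyg).trans ?_
    rw [LocalizedModule.mk_eq]
    refine ⟨1, ?_⟩
    simp only [one_smul, Submonoid.smul_def, smul_smul]
    rw [pow_succ']

/-- The global section of an element of degree `n`. -/
def globSect (n : ℤ) (x : M) (hx : Shift 𝒜 ℳ n x) : Γ(GrMod.tilde 𝒜 ℳ n, (⊤ : (Proj 𝒜).Opens)) :=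
  have key : ∀ y : ProjectiveSpectrum 𝒜, ∃ (h : A) (d : ℕ) (j : ℕ), h ∈ 𝒜 d ∧ h ∉ y.asHomogeneousIdeal ∧ (d : ℤ) + n = j := by
    intro y
    classical
    obtain ⟨f, hf, hfy⟩ := SetLike.not_le_iff_exists.1 y.not_irrelevant_le
    obtain ⟨e, he⟩ : ∃ e, (decompose 𝒜 f e : A) ∉ y.asHomogeneousIdeal := by
      by_contra! hall
      exact hfy (by rw [← sum_support_decompose 𝒜 f]; exact Ideal.sum_mem _ fun i _ => hall i)
    have he0 : 0 < e := by
      rcases Nat.eq_zero_or_pos e with rfl | h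
      · exact absurd (by rw [show (decompose 𝒜 f 0 : A) = 0 from hf]; exact zero_mem _) he
      · exact h
    refine ⟨(decompose 𝒜 f e : A) ^ n.natAbs, n.natAbs * e, (((n.natAbs * e : ℕ) : ℤ) + n).toNat,
      pow_mem_deg 𝒜 (SetLike.coe_mem _) _, pow_notMem y.isPrime he _, ?_⟩
    have : n.natAbs ≤ n.natAbs * e := Nat.le_mul_of_pos_right _ he0
    omega
  show GrMod.sect 𝒜 ℳ n (op ⊤) from
    ⟨fun y => ⟨LocalizedModule.mk x 1, by
        obtain ⟨h, d, j, hh, hy, hj⟩ := key y.1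
        have e : (LocalizedModule.mk x 1 : GrMod.LocMod 𝒜 (M := M) y.1) = LocalizedModule.mk (h • x) ⟨h, hy⟩ := by
          rw [LocalizedModule.mk_eq]; exact ⟨1, by simp [Submonoid.smul_def]⟩
        rw [e]
        exact Submodule.subset_span ⟨j, d, ⟨h • x, hx d j hj h hh⟩, ⟨h, hh⟩, hy, hj.symm, rfl⟩⟩,
     fun y => by
        obtain ⟨h, d, j, hh, hy, hj⟩ := key y.1
        refine ⟨ProjectiveSpectrum.basicOpen 𝒜 h, hy, homOfLE le_top, j, d, ⟨h • x, hx d j hj h hh⟩, ⟨h, hh⟩,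
          fun z => z.2, Or.inl hj.symm, fun z => ?_⟩
        show LocalizedModule.mk x 1 = _
        rw [LocalizedModule.mk_eq]
        exact ⟨1, by simp [Submonoid.smul_def]⟩⟩

theorem val_globSect (n : ℤ) (x : M) (hx : Shift 𝒜 ℳ n x) (y : (⊤ : (Proj 𝒜).Opens)) :
    GrMod.val (globSect n x hx) y = LocalizedModule.mk x 1 := rfl

theorem globSect_eq_iff (n : ℤ) (x x' : M) (hx : Shift 𝒜 ℳ n x) (hx' : Shift 𝒜 ℳ n x') :
    globSect n x hx = globSect n x' hx' ↔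
      ∀ y : ProjectiveSpectrum 𝒜, ∃ c : A, c ∉ y.asHomogeneousIdeal ∧ c • (x - x') = 0 := by
  constructor
  · intro h y
    have h1 : (LocalizedModule.mk x 1 : GrMod.LocMod 𝒜 (M := M) y) = LocalizedModule.mk x' 1 := by
      have := congrArg (fun s => GrMod.val s (⟨y, trivial⟩ : (⊤ : (Proj 𝒜).Opens))) h
      exact this
    obtain ⟨u, hu⟩ := LocalizedModule.mk_eq.1 h1
    refine ⟨u.1, u.2, ?_⟩
    simp only [one_smul, Submonoid.smul_def] at hu
    rw [smul_sub, hu, sub_self]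
  · intro h
    refine GrModX.ext_val 𝒜 ℳ fun y => ?_
    obtain ⟨c, hc, hcx⟩ := h y.1
    show LocalizedModule.mk x 1 = LocalizedModule.mk x' 1
    rw [LocalizedModule.mk_eq]
    refine ⟨⟨c, hc⟩, ?_⟩
    simp only [one_smul, Submonoid.smul_def]
    exact sub_eq_zero.1 ((smul_sub c x x').symm.trans hcx)

/-- Every section over a quasi-compact open comes from an element of degree `n`. -/
theorem exists_extend [IsNoetherianRing A] (hP : HomAnn 𝒜 ℳ) (n : ℤ) {Q : M → Prop} (hext : HasExt 𝒜 ℳ n Q)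
    (hQ : ∀ x, Q x → Shift 𝒜 ℳ n x) {U : (Proj 𝒜).Opens} (hU : IsCompact (U : Set (Proj 𝒜)))
    (sec : Γ(GrMod.tilde 𝒜 ℳ n, U)) :
    ∃ (x : M) (hx : Q x),
      (GrMod.tilde 𝒜 ℳ n).presheaf.map (homOfLE le_top).op (globSect n x (hQ x hx)) = sec := by
  classical
  obtain ⟨ι, _, G, E, m, hE, hG, hm, hGm, hcov, hval⟩ := exists_compatible_family hP n hU sec
  let φ : (ι → A) →ₗ[A] A := Fintype.linearCombination A G
  let ψ : (ι → A) →ₗ[A] M := Fintype.linearCombination A m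
  let I : Ideal A := Ideal.span (Set.range G)
  have hkill : I • LinearMap.ker φ ≤ LinearMap.ker ψ := by
    refine Submodule.smul_le.2 fun c hc v hv => ?_
    rw [LinearMap.mem_ker, map_smul]
    induction hc using Submodule.span_induction with
    | mem c hc =>
      obtain ⟨b, rfl⟩ := hc
      show G b • (∑ a, v a • m a) = 0
      rw [Finset.smul_sum]
      calc ∑ a, G b • v a • m a = ∑ a, (v a * G a) • m b :=
            Finset.sum_congr rfl fun a _ => by rw [smul_comm, hGm a b, smul_smul]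
        _ = (∑ a, v a * G a) • m b := (Finset.sum_smul).symm
        _ = 0 := by
          rw [show ∑ a, v a * G a = 0 from by simpa [φ, Fintype.linearCombination_apply] using (LinearMap.mem_ker.1 hv),
            zero_smul]
    | zero => rw [zero_smul]
    | add c c' _ _ h h' => rw [add_smul, h, h', add_zero]
    | smul r c _ h => rw [smul_eq_mul, mul_smul, h, smul_zero]
  obtain ⟨k, hk⟩ := I.exists_pow_inf_eq_pow_smul (LinearMap.ker φ)
  have hrel : ∀ c : ι → A, ∑ a, c a * G a ^ (k + 2) = 0 → ∑ a, c a • G a ^ (k + 1) • m a = 0 := by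
    intro c hc
    let v : ι → A := fun a => c a * G a ^ (k + 1)
    have hv : v ∈ LinearMap.ker φ := by
      rw [LinearMap.mem_ker, ← hc]
      simp only [φ, v, Fintype.linearCombination_apply, smul_eq_mul]
      exact Finset.sum_congr rfl fun a _ => by ring
    have hvI : v ∈ I ^ (k + 1) • (⊤ : Submodule A (ι → A)) := by
      rw [← Finset.univ_sum_single v]
      refine Submodule.sum_mem _ fun a _ => ?_
      have : Pi.single a (v a) = (G a ^ (k + 1)) • (Pi.single a (c a) : ι → A) := by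
        rw [← Pi.single_smul, smul_eq_mul, mul_comm]
      rw [this]
      exact Submodule.smul_mem_smul (Ideal.pow_mem_pow (show G a ∈ I from Ideal.subset_span ⟨a, rfl⟩) _) Submodule.mem_top
    have h2 : v ∈ I ^ (k + 1 - k) • (I ^ k • (⊤ : Submodule A (ι → A)) ⊓ LinearMap.ker φ) :=
      (hk (k + 1) (Nat.le_succ k)) ▸ (Submodule.mem_inf.2 ⟨hvI, hv⟩ : v ∈ I ^ (k + 1) • (⊤ : Submodule A (ι → A)) ⊓ LinearMap.ker φ)
    have h3 : ψ v = 0 := by
      refine LinearMap.mem_ker.1 (hkill (Submodule.smul_mono ?_ inf_le_right h2))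
      rw [Nat.add_sub_cancel_left, pow_one]
    rw [← h3]
    simp only [ψ, v, Fintype.linearCombination_apply, smul_smul]
  obtain ⟨x, hx, hxm⟩ := hext ι (fun a => G a ^ (k + 2)) (fun a => (k + 2) * E a) (fun a => G a ^ (k + 1) • m a)
    (fun a => pow_mem_deg 𝒜 (hG a) _)
    (fun a => ((hm a).smul 𝒜 (pow_mem_deg 𝒜 (hG a) (k + 1))).congr (by push_cast; ring))
    hrel
  · refine ⟨x, hx, GrModX.ext_val 𝒜 ℳ fun y => ?_⟩
    obtain ⟨a, ha⟩ := hcov y
    refine (GrModX.val_res 𝒜 ℳ (homOfLE le_top) _ y).trans ?_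
    rw [val_globSect, hval a y ha, LocalizedModule.mk_eq]
    refine ⟨⟨G a ^ (k + 1), pow_notMem y.1.isPrime ha _⟩, ?_⟩
    simp only [one_smul, Submonoid.smul_def]
    rw [smul_smul, ← pow_succ]
    exact hxm a

theorem isFlasque_tilde [IsNoetherianRing A] [NoetherianSpace (Proj 𝒜)] (hP : HomAnn 𝒜 ℳ) (n : ℤ) {Q : M → Prop}
    (hext : HasExt 𝒜 ℳ n Q) (hQ : ∀ x, Q x → Shift 𝒜 ℳ n x) :
    QCoh.IsFlasqueMod (GrMod.tilde 𝒜 ℳ n) where
  epi {U V} i := by
    refine (AddCommGrpCat.epi_iff_surjective _).2 fun t => ?_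
    obtain ⟨x, hx, h⟩ := exists_extend hP n hext hQ (NoetherianSpace.isCompact _) (show Γ(GrMod.tilde 𝒜 ℳ n, V.unop) from t)
    refine ⟨(GrMod.tilde 𝒜 ℳ n).presheaf.map (homOfLE le_top).op (globSect n x (hQ x hx)), ?_⟩
    refine Eq.trans ?_ h
    refine GrModX.ext_val 𝒜 ℳ fun y => ?_
    rfl

theorem exists_globSect_eq [IsNoetherianRing A] [NoetherianSpace (Proj 𝒜)] (hP : HomAnn 𝒜 ℳ) (n : ℤ) {Q : M → Prop}
    (hext : HasExt 𝒜 ℳ n Q) (hQ : ∀ x, Q x → Shift 𝒜 ℳ n x) (s : Γ(GrMod.tilde 𝒜 ℳ n, (⊤ : (Proj 𝒜).Opens))) :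
    ∃ (x : M) (hx : Q x), globSect n x (hQ x hx) = s := by
  obtain ⟨x, hx, h⟩ := exists_extend hP n hext hQ (NoetherianSpace.isCompact _) s
  exact ⟨x, hx, Eq.trans (GrModX.ext_val 𝒜 ℳ fun y => rfl) h⟩

theorem subsingleton_HH_tilde [IsNoetherianRing A] [NoetherianSpace (Proj 𝒜)] (hP : HomAnn 𝒜 ℳ) (n : ℤ) {Q : M → Prop}
    (hext : HasExt 𝒜 ℳ n Q) (hQ : ∀ x, Q x → Shift 𝒜 ℳ n x) (q : ℕ) :
    Subsingleton (Coh.HH (Proj 𝒜) (GrMod.tilde 𝒜 ℳ n) (q + 1)) := by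
  haveI := isFlasque_tilde hP n hext hQ
  exact QCoh.Ab.subsingleton_H_of_HU_top (X := (Proj 𝒜).toPresheafedSpace.carrier)
    (QCoh.abSheaf (GrMod.tilde 𝒜 ℳ n)) (q + 1)
    (SiteBase.subsingleton_HU_of_isFlasque (X := (Proj 𝒜).toPresheafedSpace.carrier)
      (QCoh.abSheaf (GrMod.tilde 𝒜 ℳ n)) ⊤ q)

end Groth.Agent.GrLib8.SerreCorr
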